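import Mathlib

/-!
Orbit chains for groups acting on elementary abelian groups.
-/

namespace Cfsg.Agent.H30.ClassFit

variable {G V : Type*} [Group G] [Finite G] [AddCommGroup V] [Finite V] [DistribMulAction G V]

theorem card_le_mul_stab (H : Subgroup G) (u : V) (T : Set V) (h : ∀ g ∈ H, g • u ∈ T) :
    Nat.card H ≤ T.ncard * Nat.card (H ⊓ MulAction.stabilizer G u : Subgroup G) := by
  have h1 : MulAction.orbit H u ⊆ T := by
    rintro _ ⟨g, rfl⟩
    exact h g g.2
  have h2 : Nat.card (MulAction.stabilizer H u) =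
      Nat.card (H ⊓ MulAction.stabilizer G u : Subgroup G) :=
    Nat.card_congr
      { toFun := fun g => ⟨g.1.1, g.1.2, g.2⟩
        invFun := fun g => ⟨⟨g.1, g.2.1⟩, g.2.2⟩
        left_inv := fun _ => rfl
        right_inv := fun _ => rfl }
  rw [← Subgroup.card_mul_index (MulAction.stabilizer H u), MulAction.index_stabilizer, h2, mul_comm]
  exact Nat.mul_le_mul_right _ (Set.ncard_le_ncard h1 (Set.toFinite T))

theorem card_sup_zmultiples {p : ℕ} (hp : p.Prime) (hV : ∀ v : V, p • v = 0) (U : AddSubgroup V)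
    {u : V} (hu : u ∉ U) :
    Nat.card (U ⊔ AddSubgroup.zmultiples u : AddSubgroup V) = Nat.card U * p := by
  haveI := Fact.mk hp
  have hu0 : u ≠ 0 := fun h => hu (h ▸ U.zero_mem)
  have hord : addOrderOf u = p := addOrderOf_eq_prime (hV u) hu0
  have hdisj : U ⊓ AddSubgroup.zmultiples u = ⊥ := by
    rw [eq_bot_iff]
    intro x hx
    by_contra hx0
    rw [AddSubgroup.mem_bot] at hx0
    have hxord : addOrderOf x = p := addOrderOf_eq_prime (hV x) hx0
    have hle : AddSubgroup.zmultiples x ≤ AddSubgroup.zmultiples u :=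
      AddSubgroup.zmultiples_le.2 hx.2
    have heq : AddSubgroup.zmultiples x = AddSubgroup.zmultiples u :=
      AddSubgroup.eq_of_le_of_card_ge hle (by rw [Nat.card_zmultiples, Nat.card_zmultiples, hxord, hord])
    exact hu (AddSubgroup.zmultiples_le.2 hx.1 (heq ▸ AddSubgroup.mem_zmultiples u))
  let f : U × AddSubgroup.zmultiples u →+ V :=
    U.subtype.coprod (AddSubgroup.zmultiples u).subtype
  have hrange : f.range = U ⊔ AddSubgroup.zmultiples u := by
    ext x
    rw [AddSubgroup.mem_sup]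
    constructor
    · rintro ⟨⟨a, b⟩, rfl⟩
      exact ⟨a, a.2, b, b.2, rfl⟩
    · rintro ⟨a, ha, b, hb, rfl⟩
      exact ⟨(⟨a, ha⟩, ⟨b, hb⟩), rfl⟩
  have hinj : Function.Injective f := (injective_iff_map_eq_zero f).2 fun ⟨a, b⟩ h => by
    have h' : (a : V) + b = 0 := h
    have hb : (b : V) ∈ U ⊓ AddSubgroup.zmultiples u := ⟨by
      rw [show (b : V) = -(a : V) from eq_neg_of_add_eq_zero_right h']
      exact U.neg_mem a.2, b.2⟩
    rw [hdisj, AddSubgroup.mem_bot] at hb
    rw [hb, add_zero] at h'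
    exact Prod.ext (Subtype.ext h') (Subtype.ext hb)
  rw [← hrange, ← Nat.card_congr (AddMonoidHom.ofInjective hinj).toEquiv, Nat.card_prod,
    Nat.card_zmultiples, hord]

theorem exists_card_eq_pow {p : ℕ} (hp : p.Prime) (hV : ∀ v : V, p • v = 0) :
    ∃ d, Nat.card V = p ^ d := by
  haveI := Fact.mk hp
  have hP : IsPGroup p (Multiplicative V) := fun x => ⟨1, by
    rw [pow_one]; exact congrArg Multiplicative.ofAdd (hV x.toAdd)⟩
  obtain ⟨d, hd⟩ := IsPGroup.iff_card.1 hP
  exact ⟨d, (Nat.card_congr Multiplicative.ofAdd).trans hd⟩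

theorem exists_card_subgroup_eq_pow {p : ℕ} (hp : p.Prime) (hV : ∀ v : V, p • v = 0)
    (U : AddSubgroup V) : ∃ j, Nat.card U = p ^ j :=
  exists_card_eq_pow hp fun v => Subtype.ext (hV v)

theorem fixingSubgroup_sup (U : AddSubgroup V) (u : V) :
    fixingSubgroup G ((U ⊔ AddSubgroup.zmultiples u : AddSubgroup V) : Set V) =
      fixingSubgroup G (U : Set V) ⊓ MulAction.stabilizer G u := by
  ext g
  simp only [mem_fixingSubgroup_iff, Subgroup.mem_inf, MulAction.mem_stabilizer_iff, SetLike.mem_coe]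
  constructor
  · intro h
    exact ⟨fun y hy => h y (AddSubgroup.mem_sup_left hy),
      h u (AddSubgroup.mem_sup_right (AddSubgroup.mem_zmultiples u))⟩
  · rintro ⟨h1, h2⟩ y hy
    obtain ⟨a, ha, b, ⟨k, rfl⟩, rfl⟩ := AddSubgroup.mem_sup.1 hy
    change g • (a + k • u) = a + k • u
    rw [smul_add, h1 a ha, smul_comm g k u, h2]

/-- The order of a pointwise stabiliser, bounded along a chain of subgroups. -/
theorem card_fix_le {p d : ℕ} (hp : p.Prime) (hV : ∀ v : V, p • v = 0) (hd : Nat.card V = p ^ d)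
    (hfaith : ∀ g : G, (∀ v : V, g • v = v) → g = 1) (N : ℕ → ℕ)
    (hN : ∀ (U : AddSubgroup V) (j : ℕ) (u : V), Nat.card U = p ^ j → u ∉ U →
      ∃ T : Set V, T.ncard ≤ N j ∧ ∀ g ∈ fixingSubgroup G (U : Set V), g • u ∈ T)
    (U : AddSubgroup V) (j : ℕ) (hj : Nat.card U = p ^ j) :
    Nat.card (fixingSubgroup G (U : Set V)) ≤ ∏ i ∈ Finset.Ico j d, N i := by
  induction hm : d - j using Nat.strong_induction_on generalizing U j with
  | _ m ih =>
    have hjd : j ≤ d := by
      have := AddSubgroup.card_le_card_addGroup U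
      rw [hj, hd] at this
      exact (Nat.pow_le_pow_iff_right hp.one_lt).1 this
    by_cases htop : U = ⊤
    · have hone : fixingSubgroup G (U : Set V) = ⊥ := by
        rw [eq_bot_iff]
        intro g hg
        rw [mem_fixingSubgroup_iff] at hg
        exact Subgroup.mem_bot.2 (hfaith g fun v => hg v (htop ▸ AddSubgroup.mem_top v))
      have hjd' : j = d := by
        rw [htop, AddSubgroup.card_top, hd] at hj
        exact (Nat.pow_right_injective hp.two_le hj).symm
      subst hjd'
      rw [hone, Subgroup.card_bot, Finset.Ico_self, Finset.prod_empty]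
    obtain ⟨u, hu⟩ : ∃ u, u ∉ U := by
      by_contra hc
      push Not at hc
      exact htop ((AddSubgroup.eq_top_iff' U).2 hc)
    have hcard : Nat.card (U ⊔ AddSubgroup.zmultiples u : AddSubgroup V) = p ^ (j + 1) := by
      rw [card_sup_zmultiples hp hV U hu, hj, pow_succ]
    have hlt : j < d := by
      have := AddSubgroup.card_le_card_addGroup (U ⊔ AddSubgroup.zmultiples u)
      rw [hcard, hd] at this
      have := (Nat.pow_le_pow_iff_right hp.one_lt).1 this
      omega
    obtain ⟨T, hT, hmem⟩ := hN U j u hj hu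
    refine (card_le_mul_stab _ u T hmem).trans ?_
    rw [← fixingSubgroup_sup, Finset.prod_eq_prod_Ico_succ_bot hlt]
    exact Nat.mul_le_mul hT (ih _ (by omega) _ (j + 1) hcard rfl)

theorem fixingSubgroup_bot : fixingSubgroup G ((⊥ : AddSubgroup V) : Set V) = ⊤ := by
  rw [eq_top_iff]
  intro g _
  rw [mem_fixingSubgroup_iff]
  intro y hy
  rw [SetLike.mem_coe, AddSubgroup.mem_bot] at hy
  rw [hy, smul_zero]

/-- The order of a group of automorphisms of an elementary abelian group. -/
theorem card_le_prod_GL {p d : ℕ} (hp : p.Prime) (hV : ∀ v : V, p • v = 0) (hd : Nat.card V = p ^ d)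
    (hfaith : ∀ g : G, (∀ v : V, g • v = v) → g = 1) :
    Nat.card G ≤ ∏ i ∈ Finset.range d, (p ^ d - p ^ i) := by
  have h := card_fix_le hp hV hd hfaith (fun i => p ^ d - p ^ i) (fun U j u hj hu => ?_) ⊥ 0
    (by rw [AddSubgroup.card_bot, pow_zero])
  · rwa [fixingSubgroup_bot, Subgroup.card_top, ← Finset.range_eq_Ico] at h
  refine ⟨(U : Set V)ᶜ, le_of_eq ?_, fun g hg => fun hmem => hu ?_⟩
  · rw [Set.ncard_compl]
    rw [show (U : Set V).ncard = p ^ j from hj, hd]
  · rw [mem_fixingSubgroup_iff] at hg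
    have h1 := hg (g • u) hmem
    have h2 : g • u = u := smul_left_cancel g h1
    exact h2 ▸ hmem

end Cfsg.Agent.H30.ClassFit
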