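import Mathlib
import Cfsg.Agent.H30.ClassFit.Fix

/-!
Alternating bimultiplicative pairings on finite abelian groups.
-/

namespace Cfsg.Agent.H30.ClassFit

/-- An alternating pairing with values in the complex numbers. -/
structure Alt (V : Type*) [AddCommGroup V] where
  f : V → V → ℂ
  add_left : ∀ u v w, f (u + v) w = f u w * f v w
  add_right : ∀ u v w, f u (v + w) = f u v * f u w
  self : ∀ u, f u u = 1

namespace Alt

variable {V : Type*} [AddCommGroup V] (B : Alt V)

theorem zero_left (w : V) : B.f 0 w = 1 := by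
  have h := B.add_left 0 w w
  rw [zero_add, B.self, mul_one] at h
  exact h.symm

theorem swap_mul (u v : V) : B.f u v * B.f v u = 1 := by
  have h := B.self (u + v)
  rw [B.add_left, B.add_right, B.add_right, B.self, B.self, one_mul, mul_one] at h
  exact h

theorem ne_zero (u v : V) : B.f u v ≠ 0 := fun h => by
  have := B.swap_mul u v
  rw [h, zero_mul] at this
  exact zero_ne_one this

theorem zero_right (u : V) : B.f u 0 = 1 := by
  have h := B.swap_mul u 0
  rwa [B.zero_left, mul_one] at h

theorem swap_eq_one {u v : V} (h : B.f u v = 1) : B.f v u = 1 := by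
  have := B.swap_mul u v
  rwa [h, one_mul] at this

theorem neg_left (u v : V) : B.f (-u) v = (B.f u v)⁻¹ := by
  refine eq_inv_of_mul_eq_one_left ?_
  rw [← B.add_left, neg_add_cancel, B.zero_left]

theorem sub_left (u v w : V) : B.f (u - v) w = B.f u w * (B.f v w)⁻¹ := by
  rw [sub_eq_add_neg, B.add_left, B.neg_left]

theorem nsmul_left (n : ℕ) (u v : V) : B.f (n • u) v = B.f u v ^ n := by
  induction n with
  | zero => rw [zero_nsmul, B.zero_left, pow_zero]
  | succ n ih => rw [succ_nsmul, B.add_left, ih, pow_succ]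

theorem nsmul_right (n : ℕ) (u v : V) : B.f u (n • v) = B.f u v ^ n := by
  induction n with
  | zero => rw [zero_nsmul, B.zero_right, pow_zero]
  | succ n ih => rw [succ_nsmul, B.add_right, ih, pow_succ]

/-- The orthogonal of a set. -/
def perp (U : Set V) : AddSubgroup V where
  carrier := {v | ∀ u ∈ U, B.f v u = 1}
  add_mem' := fun {a b} ha hb u hu => by rw [B.add_left, ha u hu, hb u hu, one_mul]
  zero_mem' := fun u _ => B.zero_left u
  neg_mem' := fun {a} ha u hu => by rw [B.neg_left, ha u hu, inv_one]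

theorem mem_perp {U : Set V} {v : V} : v ∈ B.perp U ↔ ∀ u ∈ U, B.f v u = 1 := Iff.rfl

theorem perp_anti {U W : Set V} (h : U ⊆ W) : B.perp W ≤ B.perp U := fun _ hv u hu => hv u (h hu)

theorem le_perp_perp (U : AddSubgroup V) : U ≤ B.perp (B.perp (U : Set V) : Set V) :=
  fun u hu v hv => B.swap_eq_one (hv u hu)

/-- The pairing is nondegenerate on `U`. -/
def NondegOn (U : AddSubgroup V) : Prop := U ⊓ B.perp (U : Set V) = ⊥

/-- The pairing is nondegenerate. -/
def Nondeg : Prop := ∀ v : V, (∀ w, B.f v w = 1) → v = 0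

/-- Restriction to a subgroup. -/
def restrict (U : AddSubgroup V) : Alt U where
  f u v := B.f u v
  add_left u v w := B.add_left u v w
  add_right u v w := B.add_right u v w
  self u := B.self u

theorem restrict_nondeg {U : AddSubgroup V} (hU : B.NondegOn U) : (B.restrict U).Nondeg := by
  intro u hu
  have h : (u : V) ∈ U ⊓ B.perp (U : Set V) := ⟨u.2, fun w hw => hu ⟨w, hw⟩⟩
  rw [hU, AddSubgroup.mem_bot] at h
  exact Subtype.ext h

theorem nondegOn_top_iff : B.NondegOn ⊤ ↔ B.Nondeg := by
  constructor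
  · intro h v hv
    have h' : v ∈ (⊤ : AddSubgroup V) ⊓ B.perp ((⊤ : AddSubgroup V) : Set V) :=
      ⟨trivial, fun w _ => hv w⟩
    rw [h, AddSubgroup.mem_bot] at h'
    exact h'
  · intro h
    rw [Alt.NondegOn, eq_bot_iff]
    exact fun v hv => AddSubgroup.mem_bot.2 (h v fun w => hv.2 w trivial)

variable [Finite V]

theorem card_monoidHom_le (A : Type*) [Monoid A] [Finite A] :
    Finite (A →* ℂ) ∧ Nat.card (A →* ℂ) ≤ Nat.card A := by
  have := Fintype.ofFinite A
  have hli := linearIndependent_monoidHom A ℂ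
  have hfin : Finite (A →* ℂ) := hli.finite
  have := Fintype.ofFinite (A →* ℂ)
  refine ⟨hfin, ?_⟩
  rw [Nat.card_eq_fintype_card, Nat.card_eq_fintype_card]
  exact hli.fintype_card_le_finrank.trans_eq (Module.finrank_fintype_fun_eq_card ℂ)

theorem card_le_card_mul_card_perp (U : AddSubgroup V) :
    Nat.card V ≤ Nat.card U * Nat.card (B.perp (U : Set V)) := by
  rw [AddSubgroup.card_eq_card_quotient_mul_card_addSubgroup (B.perp (U : Set V))]
  refine Nat.mul_le_mul_right _ ?_
  obtain ⟨hfin, hle⟩ := card_monoidHom_le (Multiplicative U)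
  refine le_trans ?_ (hle.trans_eq (Nat.card_congr Multiplicative.toAdd))
  let Φ : V ⧸ B.perp (U : Set V) → (Multiplicative U →* ℂ) := fun q =>
    { toFun := fun u => B.f q.out (u.toAdd : V)
      map_one' := B.zero_right _
      map_mul' := fun a b => B.add_right _ _ _ }
  refine Nat.card_le_card_of_injective Φ fun q r h => ?_
  rw [← QuotientAddGroup.out_eq' q, ← QuotientAddGroup.out_eq' r, QuotientAddGroup.eq]
  intro u hu
  have h' := DFunLike.congr_fun h (Multiplicative.ofAdd (⟨u, hu⟩ : U))
  change B.f q.out u = B.f r.out u at h'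
  rw [B.add_left, B.neg_left, ← h', inv_mul_cancel₀ (B.ne_zero _ _)]

variable {B}

theorem card_mul_card_perp (hB : B.Nondeg) (U : AddSubgroup V) :
    Nat.card U * Nat.card (B.perp (U : Set V)) = Nat.card V := by
  refine le_antisymm ?_ (B.card_le_card_mul_card_perp U)
  rw [AddSubgroup.card_eq_card_quotient_mul_card_addSubgroup (B.perp (U : Set V))]
  refine Nat.mul_le_mul_right _ ?_
  obtain ⟨hfin, hle⟩ := card_monoidHom_le (Multiplicative (V ⧸ B.perp (U : Set V)))
  refine le_trans ?_ (hle.trans_eq (Nat.card_congr Multiplicative.toAdd))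
  have hwd : ∀ (u : U) (v w : V), -v + w ∈ B.perp (U : Set V) → B.f u v = B.f u w := by
    intro u v w h
    have h1 : B.f u (-v + w) = 1 := B.swap_eq_one (h u u.2)
    have h2 : B.f u w = B.f u v * B.f u (-v + w) := by
      rw [← B.add_right, add_neg_cancel_left]
    rw [h2, h1, mul_one]
  let Φ : U → (Multiplicative (V ⧸ B.perp (U : Set V)) →* ℂ) := fun u =>
    { toFun := fun q => B.f u q.toAdd.out
      map_one' := by
        change B.f u (0 : V ⧸ B.perp (U : Set V)).out = 1
        rw [hwd u _ 0 (QuotientAddGroup.eq.1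
          ((QuotientAddGroup.out_eq' _).trans (QuotientAddGroup.mk_zero _).symm))]
        exact B.zero_right _
      map_mul' := fun a b => by
        rw [← B.add_right]
        refine hwd u _ _ (QuotientAddGroup.eq.1 ?_)
        rw [QuotientAddGroup.out_eq', QuotientAddGroup.mk_add, QuotientAddGroup.out_eq',
          QuotientAddGroup.out_eq']
        rfl }
  refine Nat.card_le_card_of_injective Φ fun u w h => ?_
  refine Subtype.ext (sub_eq_zero.1 (hB _ fun v => ?_))
  have h' := DFunLike.congr_fun h (Multiplicative.ofAdd (v : V ⧸ B.perp (U : Set V)))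
  change B.f u (QuotientAddGroup.mk v).out = B.f w (QuotientAddGroup.mk v).out at h'
  rw [hwd u _ v (QuotientAddGroup.eq.1 (QuotientAddGroup.out_eq' _)),
    hwd w _ v (QuotientAddGroup.eq.1 (QuotientAddGroup.out_eq' _))] at h'
  rw [B.sub_left, h', mul_inv_cancel₀ (B.ne_zero _ _)]

theorem sup_perp_eq_top (hB : B.Nondeg) {U : AddSubgroup V} (hU : B.NondegOn U) :
    U ⊔ B.perp (U : Set V) = ⊤ := by
  let g : U × B.perp (U : Set V) →+ V := U.subtype.coprod (B.perp (U : Set V)).subtype
  have hinj : Function.Injective g := (injective_iff_map_eq_zero g).2 fun ⟨a, b⟩ h => by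
    have h' : (a : V) + b = 0 := h
    have hb : (b : V) ∈ U ⊓ B.perp (U : Set V) := ⟨by
      rw [show (b : V) = -(a : V) from eq_neg_of_add_eq_zero_right h']
      exact U.neg_mem a.2, b.2⟩
    rw [hU, AddSubgroup.mem_bot] at hb
    rw [hb, add_zero] at h'
    exact Prod.ext (Subtype.ext h') (Subtype.ext hb)
  have hbij : Function.Bijective g :=
    (Nat.bijective_iff_injective_and_card g).2 ⟨hinj, by rw [Nat.card_prod]; exact card_mul_card_perp hB U⟩
  rw [eq_top_iff]
  intro v _
  obtain ⟨⟨a, b⟩, rfl⟩ := hbij.2 v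
  exact AddSubgroup.mem_sup.2 ⟨a, a.2, b, b.2, rfl⟩

theorem perp_perp (hB : B.Nondeg) (U : AddSubgroup V) :
    B.perp (B.perp (U : Set V) : Set V) = U := by
  refine (AddSubgroup.eq_of_le_of_card_ge (B.le_perp_perp U) (le_of_eq ?_)).symm
  refine Nat.eq_of_mul_eq_mul_left (Nat.card_pos (α := B.perp (U : Set V))) ?_
  rw [card_mul_card_perp hB, mul_comm, card_mul_card_perp hB]

theorem nondegOn_perp (hB : B.Nondeg) {U : AddSubgroup V} (hU : B.NondegOn U) :
    B.NondegOn (B.perp (U : Set V)) := by
  rw [Alt.NondegOn, perp_perp hB, inf_comm]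
  exact hU

/-- A nondegenerate alternating pairing on a group of exponent `p` lives on a square. -/
theorem exists_card_eq_sq {p : ℕ} (hp : p.Prime) (hV : ∀ v : V, p • v = 0) (hB : B.Nondeg) :
    ∃ a, Nat.card V = (p ^ a) ^ 2 := by
  induction hn : Nat.card V using Nat.strong_induction_on generalizing V B with
  | _ n ih =>
    rcases subsingleton_or_nontrivial V with hs | hnt
    · exact ⟨0, by rw [← hn, Nat.card_of_subsingleton (0 : V)]; rfl⟩
    obtain ⟨u, hu⟩ := exists_ne (0 : V)
    obtain ⟨v, hv⟩ : ∃ v, B.f u v ≠ 1 := by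
      by_contra hc
      push Not at hc
      exact hu (hB u hc)
    have hvu : v ∉ AddSubgroup.zmultiples u := by
      intro hmem
      haveI := Fact.mk hp
      obtain ⟨k, hk⟩ := (AddSubgroup.mem_zmultiples_iff.1 hmem)
      have hle : AddSubgroup.zmultiples u ≤ B.perp {u} := by
        rw [AddSubgroup.zmultiples_le]
        intro w hw
        rw [Set.mem_singleton_iff.1 hw]
        exact B.self u
      exact hv (B.swap_eq_one (hle hmem u rfl))
    let P : AddSubgroup V := AddSubgroup.zmultiples u ⊔ AddSubgroup.zmultiples v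
    have hP : Nat.card P = p * p := by
      rw [card_sup_zmultiples hp hV _ hvu, Nat.card_zmultiples,
        @addOrderOf_eq_prime _ _ _ p ⟨hp⟩ (hV u) hu]
    have hPnd : B.NondegOn P := by
      rw [Alt.NondegOn, eq_bot_iff]
      rintro x ⟨hx, hxP⟩
      obtain ⟨y, hy, z, hz, rfl⟩ := AddSubgroup.mem_sup.1 hx
      obtain ⟨i, rfl⟩ := AddSubgroup.mem_zmultiples_iff.1 hy
      obtain ⟨j, rfl⟩ := AddSubgroup.mem_zmultiples_iff.1 hz
      rw [AddSubgroup.mem_bot]
      have hnat : ∀ (k : ℤ) (w : V), ∃ m : ℕ, m < p ∧ k • w = m • w := fun k w => by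
        have hpos : (0 : ℤ) < p := by exact_mod_cast hp.pos
        refine ⟨(k % p).toNat, (Int.toNat_lt (Int.emod_nonneg k hpos.ne')).2 (Int.emod_lt_of_pos k hpos), ?_⟩
        rw [← natCast_zsmul, Int.toNat_of_nonneg (Int.emod_nonneg k hpos.ne')]
        conv_lhs => rw [← Int.emod_add_mul_ediv k p, add_zsmul, mul_comm, mul_zsmul, natCast_zsmul, hV, smul_zero, add_zero]
      obtain ⟨m, hm, hmi⟩ := hnat i u
      obtain ⟨m', hm', hmj⟩ := hnat j v
      rw [hmi, hmj] at hxP ⊢
      haveI := Fact.mk hp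
      have h1 := hxP v (AddSubgroup.mem_sup_right (AddSubgroup.mem_zmultiples v))
      rw [B.add_left, B.nsmul_left, B.nsmul_left, B.self, one_pow, mul_one] at h1
      have h2 := hxP u (AddSubgroup.mem_sup_left (AddSubgroup.mem_zmultiples u))
      rw [B.add_left, B.nsmul_left, B.nsmul_left, B.self, one_pow, one_mul] at h2
      have hord : ∀ {x : ℂ}, x ^ p = 1 → x ≠ 1 → orderOf x = p := fun hx hx1 => orderOf_eq_prime hx hx1
      have hpuv : B.f u v ^ p = 1 := by rw [← B.nsmul_left, hV, B.zero_left]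
      have hpvu : B.f v u ^ p = 1 := by rw [← B.nsmul_left, hV, B.zero_left]
      have hvu1 : B.f v u ≠ 1 := fun h => hv (B.swap_eq_one h)
      have hm0 : m = 0 := Nat.eq_zero_of_dvd_of_lt (hord hpuv hv ▸ orderOf_dvd_of_pow_eq_one h1) hm
      have hm0' : m' = 0 := Nat.eq_zero_of_dvd_of_lt (hord hpvu hvu1 ▸ orderOf_dvd_of_pow_eq_one h2) hm'
      rw [hm0, hm0', zero_nsmul, zero_nsmul, add_zero]
    have hcard := card_mul_card_perp hB P
    have hlt : Nat.card (B.perp (P : Set V)) < n := by
      rw [← hn, ← hcard, hP]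
      refine lt_mul_of_one_lt_left Nat.card_pos ?_
      have := hp.two_le
      nlinarith
    obtain ⟨a, ha⟩ := ih _ hlt (V := B.perp (P : Set V)) (B := B.restrict _)
      (fun w => Subtype.ext (hV w)) (restrict_nondeg B (nondegOn_perp hB hPnd)) rfl
    refine ⟨a + 1, ?_⟩
    rw [← hn, ← hcard, hP, ha]
    ring

end Alt

end Cfsg.Agent.H30.ClassFit
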