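import Mathlib
import Cfsg.Agent.H77.ClassNumber
import Cfsg.Agent.Cores.Fitting
import Cfsg.Prelude.Def_Solvable

/-!
Uniform bounds on the class numbers of all subgroups of a finite group.
-/

namespace Cfsg.Agent.H30.ClassFit

open Subgroup Cfsg Cfsg.Agent.Cores

/-- Every subgroup of `X` has at most `n` conjugacy classes. -/
def KBound (X : Type*) [Group X] (n : ℕ) : Prop :=
  ∀ L : Subgroup X, Nat.card (ConjClasses L) ≤ n

variable {X Y : Type*} [Group X] [Group Y]

theorem kcard_le_of_surjective [Finite X] (f : X →* Y) (hf : Function.Surjective f) :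
    Nat.card (ConjClasses Y) ≤ Nat.card (ConjClasses X) :=
  Nat.card_le_card_of_surjective (ConjClasses.map f) (ConjClasses.map_surjective hf)

theorem kcard_le_card [Finite X] : Nat.card (ConjClasses X) ≤ Nat.card X :=
  Nat.card_le_card_of_surjective ConjClasses.mk ConjClasses.mk_surjective

theorem KBound.mono_n {n m : ℕ} (h : KBound X n) (hnm : n ≤ m) : KBound X m :=
  fun L => (h L).trans hnm

theorem KBound.of_card [Finite X] {n : ℕ} (h : Nat.card X ≤ n) : KBound X n :=
  fun L => kcard_le_card.trans ((L.card_le_card_group).trans h)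

theorem KBound.of_injective [Finite Y] {n : ℕ} (f : X →* Y) (hf : Function.Injective f)
    (h : KBound Y n) : KBound X n := fun L => by
  let e := L.equivMapOfInjective f hf
  haveI : Finite (L.map f) := inferInstance
  exact (kcard_le_of_surjective e.symm.toMonoidHom e.symm.surjective).trans (h (L.map f))

theorem KBound.of_surjective [Finite X] {n : ℕ} (f : X →* Y) (hf : Function.Surjective f)
    (h : KBound X n) : KBound Y n := fun L => by
  let g : L.comap f →* L := (f.comp (L.comap f).subtype).codRestrict L fun x => x.2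
  refine (kcard_le_of_surjective g fun y => ?_).trans (h _)
  obtain ⟨x, hx⟩ := hf (y : Y)
  exact ⟨⟨x, by rw [Subgroup.mem_comap, hx]; exact y.2⟩, Subtype.ext hx⟩

theorem KBound.of_mulEquiv [Finite Y] {n : ℕ} (e : X ≃* Y) (h : KBound Y n) : KBound X n :=
  h.of_injective e.toMonoidHom e.injective

/-- Extensions multiply the bounds. -/
theorem KBound.of_ker [Finite X] [Finite Y] {a b : ℕ} (f : X →* Y) (ha : KBound f.ker a)
    (hb : KBound Y b) : KBound X (a * b) := fun L => by
  haveI := Fintype.ofFinite L
  let g : L →* Y := f.comp L.subtype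
  refine (H77.kcard_le_mul_quotient g.ker).trans (Nat.mul_le_mul ?_ ?_)
  · let i : g.ker →* f.ker := (L.subtype.comp g.ker.subtype).codRestrict f.ker fun x => x.2
    have hi : Function.Injective i := fun x y h => by
      have h' := congrArg Subtype.val h
      exact Subtype.ext (Subtype.ext h')
    have := (ha.of_injective i hi) ⊤
    exact (kcard_le_of_surjective (Subgroup.topEquiv (G := ↥g.ker)).toMonoidHom (Subgroup.topEquiv (G := ↥g.ker)).surjective).trans this
  · let e := QuotientGroup.quotientKerEquivRange g
    exact (kcard_le_of_surjective e.symm.toMonoidHom e.symm.surjective).trans (hb g.range)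

theorem KBound.of_normal [Finite X] {a b : ℕ} (N : Subgroup X) [N.Normal] (ha : KBound N a)
    (hb : KBound (X ⧸ N) b) : KBound X (a * b) :=
  KBound.of_ker (QuotientGroup.mk' N)
    (ha.of_injective (Subgroup.inclusion (le_of_eq (QuotientGroup.ker_mk' N)))
      (Subgroup.inclusion_injective _)) hb

theorem KBound.kcard [Finite X] {n : ℕ} (h : KBound X n) : Nat.card (ConjClasses X) ≤ n :=
  (kcard_le_of_surjective (Subgroup.topEquiv (G := X)).toMonoidHom (Subgroup.topEquiv (G := X)).surjective).trans (h ⊤)

theorem KBound.prod [Finite X] [Finite Y] {a b : ℕ} (ha : KBound X a) (hb : KBound Y b) :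
    KBound (X × Y) (a * b) := by
  refine KBound.of_ker (MonoidHom.snd X Y) ?_ hb
  refine ha.of_injective ((MonoidHom.fst X Y).comp (MonoidHom.snd X Y).ker.subtype) ?_
  rintro ⟨⟨x, y⟩, hy⟩ ⟨⟨x', y'⟩, hy'⟩ h
  change x = x' at h
  change y = 1 at hy
  change y' = 1 at hy'
  subst h hy hy'
  rfl

theorem KBound.pi {ι : Type*} [Fintype ι] {Z : ι → Type*} [∀ i, Group (Z i)]
    [∀ i, Finite (Z i)] {b : ι → ℕ} (h : ∀ i, KBound (Z i) (b i)) :
    KBound (∀ i, Z i) (∏ i, b i) := by
  classical
  suffices hs : ∀ s : Finset ι, KBound (∀ i : s, Z i) (∏ i ∈ s, b i) by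
    let F : (∀ i, Z i) →* (∀ i : (Finset.univ : Finset ι), Z i) :=
      { toFun := fun x i => x i, map_one' := rfl, map_mul' := fun _ _ => rfl }
    refine (hs Finset.univ).of_injective F fun x y hxy => ?_
    funext i
    exact congrFun hxy ⟨i, Finset.mem_univ i⟩
  intro s
  induction s using Finset.induction_on with
  | empty =>
    haveI : IsEmpty (∅ : Finset ι) := Finset.instIsEmpty
    refine KBound.of_card ?_
    rw [Finset.prod_empty, Nat.card_of_subsingleton (1 : ∀ i : (∅ : Finset ι), Z i)]
  | @insert a t hat ih =>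
    rw [Finset.prod_insert hat]
    let F : (∀ i : (insert a t : Finset ι), Z i) →* Z a × (∀ i : t, Z i) :=
      { toFun := fun x => (x ⟨a, Finset.mem_insert_self a t⟩,
          fun i => x ⟨(i : ι), Finset.mem_insert_of_mem i.2⟩)
        map_one' := rfl, map_mul' := fun _ _ => rfl }
    refine ((h a).prod ih).of_injective F fun x y hxy => ?_
    funext ⟨i, hi⟩
    rcases Finset.mem_insert.1 hi with rfl | hit
    · exact (Prod.ext_iff.1 hxy).1
    · exact congrFun (Prod.ext_iff.1 hxy).2 ⟨i, hit⟩

/-- A subgroup with bounded centralisers outside a small set. -/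
theorem kbound_of_centralizer [Finite X] (S : Set X) (z c : ℕ) (hc : 0 < c) (hz : S.ncard ≤ z) (h1S : (1 : X) ∈ S)
    (h : ∀ x ∉ S, Nat.card (Subgroup.centralizer ({x} : Set X)) ≤ c) :
    KBound X (z + c - 1) := fun L => by
  classical
  haveI := Fintype.ofFinite X
  have hpos : 0 < Nat.card L := Nat.card_pos
  have hkey : Nat.card (ConjClasses L) * Nat.card L < (z + c) * Nat.card L := by
    rw [H77.kcard_mul_card_subgroup L]
    let T : Finset L := Finset.univ.filter fun y : L => (y : X) ∈ S
    have hT : T.card ≤ z := by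
      refine le_trans ?_ hz
      rw [Set.ncard_eq_toFinset_card']
      refine Finset.card_le_card_of_injOn (fun y : L => (y : X)) ?_ (fun a _ b _ hab => Subtype.ext hab)
      intro y hy
      simpa [T] using hy
    calc ∑ y : L, Nat.card ↥(Subgroup.centralizer ({(y : X)} : Set X) ⊓ L)
        ≤ ∑ y : L, (if (y : X) ∈ S then Nat.card L else c) := by
          refine Finset.sum_le_sum fun y _ => ?_
          split_ifs with hy
          · exact Subgroup.card_le_of_le inf_le_right
          · exact (Subgroup.card_le_of_le inf_le_left).trans (h _ hy)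
      _ = T.card * Nat.card L + (Finset.univ.filter fun y : L => (y : X) ∉ S).card * c := by
          rw [Finset.sum_ite, Finset.sum_const, Finset.sum_const]; rfl
      _ < (z + c) * Nat.card L := by
          have h1 : T.card + (Finset.univ.filter fun y : L => (y : X) ∉ S).card = Nat.card L := by
            rw [Finset.card_filter_add_card_filter_not, Finset.card_univ, Nat.card_eq_fintype_card]
          have hT1 : 0 < T.card := Finset.card_pos.2 ⟨1, by simpa [T] using h1S⟩
          rw [add_mul]
          have h2 : T.card * Nat.card L ≤ z * Nat.card L := Nat.mul_le_mul_right _ hT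
          have h3 : (Finset.univ.filter fun y : L => (y : X) ∉ S).card * c < c * Nat.card L := by
            rw [mul_comm]
            exact Nat.mul_lt_mul_of_pos_left (by omega) hc
          omega
  have := Nat.lt_of_mul_lt_mul_right hkey
  omega

section Fitting

variable {G : Type*} [Group G] [Finite G]

theorem kbound_quotient_fitting {n : ℕ} (ψ : G →* Y) [Finite Y]
    (hker : ψ.ker ≤ fittingSubgroup G) (h : KBound Y n) : KBound (G ⧸ fittingSubgroup G) n := by
  have h1 : KBound (G ⧸ ψ.ker) n :=
    h.of_injective (QuotientGroup.kerLift ψ) (QuotientGroup.kerLift_injective ψ)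
  refine h1.of_surjective (QuotientGroup.map ψ.ker (fittingSubgroup G) (MonoidHom.id G)
    (by simpa using hker)) fun q => ?_
  obtain ⟨g, rfl⟩ := QuotientGroup.mk_surjective q
  exact ⟨g, rfl⟩

variable {ι : Type*} [Finite ι] {Z : ι → Type*} [∀ i, Group (Z i)] [∀ i, Finite (Z i)]

/-- The Fitting subgroup of a subdirect product. -/
theorem fitting_of_pi (f : ∀ i, G →* Z i) (hf : ∀ i, Function.Surjective (f i))
    (hinj : ∀ g : G, (∀ i, f i g = 1) → g = 1) :
    (MonoidHom.pi fun i => (QuotientGroup.mk' (fittingSubgroup (Z i))).comp (f i)).ker ≤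
      fittingSubgroup G := by
  refine le_fittingSubgroup ?_
  set K := (MonoidHom.pi fun i => (QuotientGroup.mk' (fittingSubgroup (Z i))).comp (f i)).ker
    with hK
  have hmem : ∀ (k : K) (i : ι), f i k ∈ fittingSubgroup (Z i) := fun k i =>
    (QuotientGroup.eq_one_iff _).1 (congrFun (MonoidHom.mem_ker.1 k.2) i)
  let j : K →* (∀ i, fittingSubgroup (Z i)) :=
    MonoidHom.pi fun i => ((f i).comp K.subtype).codRestrict _ fun k => hmem k i
  have hj : Function.Injective j := (injective_iff_map_eq_one j).2 fun k hk =>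
    Subtype.ext (hinj _ fun i => congrArg Subtype.val (congrFun hk i))
  haveI : ∀ i, Group.IsNilpotent (fittingSubgroup (Z i)) := fun i => fittingSubgroup_isNilpotent
  exact (Group.isNilpotent_congr (MonoidHom.ofInjective hj)).mpr inferInstance

theorem kbound_quotient_fitting_pi [Fintype ι] {b : ι → ℕ} (f : ∀ i, G →* Z i)
    (hf : ∀ i, Function.Surjective (f i)) (hinj : ∀ g : G, (∀ i, f i g = 1) → g = 1)
    (h : ∀ i, KBound (Z i ⧸ fittingSubgroup (Z i)) (b i)) :
    KBound (G ⧸ fittingSubgroup G) (∏ i, b i) :=
  kbound_quotient_fitting _ (fitting_of_pi f hf hinj) (KBound.pi h)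

/-- Passing from a normal subgroup to the whole group. -/
theorem kbound_quotient_fitting_normal {a b : ℕ} (B : Subgroup G) [B.Normal]
    (ha : KBound (B ⧸ fittingSubgroup B) a) (hb : KBound (G ⧸ B) b) :
    KBound (G ⧸ fittingSubgroup G) (a * b) := by
  haveI : ((fittingSubgroup G) ⊔ B).Normal := inferInstance
  let q : G ⧸ fittingSubgroup G →* G ⧸ (fittingSubgroup G ⊔ B) :=
    QuotientGroup.map _ _ (MonoidHom.id G) le_sup_left
  refine KBound.of_ker q ?_ ?_
  · let i : B ⧸ fittingSubgroup B →* q.ker :=
      (QuotientGroup.lift (fittingSubgroup B) ((QuotientGroup.mk' (fittingSubgroup G)).comp B.subtype)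
        fun x hx => (QuotientGroup.eq_one_iff _).2 (map_fittingSubgroup_le_of_normal B ⟨x, hx, rfl⟩)).codRestrict
        q.ker fun x => by
          induction x using QuotientGroup.induction_on with
          | _ x =>
            rw [MonoidHom.mem_ker]
            exact (QuotientGroup.eq_one_iff (x : G)).2 (le_sup_right (a := fittingSubgroup G) x.2)
    refine ha.of_surjective i fun y => ?_
    obtain ⟨g, hg⟩ := QuotientGroup.mk'_surjective (fittingSubgroup G) (y : G ⧸ fittingSubgroup G)
    have hgy : g ∈ fittingSubgroup G ⊔ B := by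
      have := MonoidHom.mem_ker.1 y.2
      rw [← hg] at this
      exact (QuotientGroup.eq_one_iff g).1 this
    obtain ⟨x, hx, z, hz, rfl⟩ := Subgroup.mem_sup_of_normal_left.1 hgy
    refine ⟨((⟨z, hz⟩ : B) : B ⧸ fittingSubgroup B), Subtype.ext ?_⟩
    rw [← hg, map_mul, show QuotientGroup.mk' (fittingSubgroup G) x = 1 from
      (QuotientGroup.eq_one_iff x).2 hx, one_mul]
    rfl
  · refine hb.of_surjective (QuotientGroup.map B _ (MonoidHom.id G) le_sup_right) fun y => ?_
    obtain ⟨g, rfl⟩ := QuotientGroup.mk_surjective y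
    exact ⟨g, rfl⟩

end Fitting

end Cfsg.Agent.H30.ClassFit
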