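import Cfsg.Agent.H30.ClassFit.Alt
import Cfsg.Agent.H30.ClassFit.KBound
import Cfsg.Agent.S4374

/-!
Bounds for groups preserving a nondegenerate alternating pairing.
-/

namespace Cfsg.Agent.H30.ClassFit

variable {X V : Type*} [Group X] [Finite X] [AddCommGroup V] [Finite V] [DistribMulAction X V]

/-- The standing hypotheses: a faithful action preserving a nondegenerate pairing. -/
structure Preserves (B : Alt V) (X : Type*) [Group X] [DistribMulAction X V] : Prop where
  nondeg : B.Nondeg
  pres : ∀ (g : X) (u v : V), B.f (g • u) (g • v) = B.f u v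
  faithful : ∀ g : X, (∀ v : V, g • v = v) → g = 1

variable {B : Alt V}

namespace Preserves

theorem smul_sub_mem_perp (hX : Preserves B X) {U : AddSubgroup V} {g : X}
    (hg : g ∈ fixingSubgroup X (U : Set V)) (u : V) : g • u - u ∈ B.perp (U : Set V) := by
  intro w hw
  rw [mem_fixingSubgroup_iff] at hg
  have h := hX.pres g u w
  rw [hg w hw] at h
  rw [B.sub_left, h, mul_inv_cancel₀ (B.ne_zero _ _)]

/-- Pointwise stabilisers are small. -/
theorem card_fix_le (hX : Preserves B X) {p d : ℕ} (hp : p.Prime) (hV : ∀ v : V, p • v = 0)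
    (hd : Nat.card V = p ^ d) (U : AddSubgroup V) (j : ℕ) (hj : Nat.card U = p ^ j) :
    Nat.card (fixingSubgroup X (U : Set V)) ≤ ∏ i ∈ Finset.Ico j d, p ^ (d - i) := by
  refine ClassFit.card_fix_le hp hV hd hX.faithful _ (fun U' j' u hj' hu => ?_) U j hj
  refine ⟨(u + ·) '' (B.perp (U' : Set V) : Set V), ?_, fun g hg => ⟨g • u - u, hX.smul_sub_mem_perp hg u, add_sub_cancel u (g • u)⟩⟩
  refine (Set.ncard_image_le (Set.toFinite _)).trans (le_of_eq ?_)
  have h := Alt.card_mul_card_perp hX.nondeg U'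
  rw [hj', hd] at h
  have hjd : j' ≤ d := by
    have := AddSubgroup.card_le_card_addGroup U'
    rw [hj', hd] at this
    exact (Nat.pow_le_pow_iff_right hp.one_lt).1 this
  refine Nat.eq_of_mul_eq_mul_left (pow_pos hp.pos j') ?_
  rw [← pow_add, Nat.add_sub_cancel' hjd]
  exact h

/-- The scalars among the isometries are few. -/
theorem ncard_scalar_le (hX : Preserves B X) {p d : ℕ} (hp : p.Prime) (hV : ∀ v : V, p • v = 0)
    (hd : Nat.card V = p ^ d) (hd2 : 2 ≤ d) :
    {x : X | ∀ v : V, x • v ∈ AddSubgroup.zmultiples v}.ncard ≤ (if p = 2 then 1 else 2) := by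
  classical
  haveI := Fact.mk hp
  letI : Module (ZMod p) V := AddCommGroup.zmodModule hV
  have hpm : ∀ x ∈ {x : X | ∀ v : V, x • v ∈ AddSubgroup.zmultiples v},
      (∀ v : V, x • v = v) ∨ (∀ v : V, x • v = -v) := by
    intro x hx
    haveI : Nontrivial V := Finite.one_lt_card_iff_nontrivial.1 (by
      rw [hd]; exact Nat.one_lt_pow (by omega) hp.one_lt)
    obtain ⟨u, hu⟩ := exists_ne (0 : V)
    have key : ∀ v : V, ∃ c : ZMod p, x • v = c • v := fun v => by
      obtain ⟨k, hk⟩ := AddSubgroup.mem_zmultiples_iff.1 (hx v)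
      exact ⟨(k : ZMod p), by rw [← hk, Int.cast_smul_eq_zsmul]⟩
    obtain ⟨c, hc⟩ := key u
    have hall0 : ∀ w : V, w ∉ AddSubgroup.zmultiples u → x • w = c • w := by
      intro w hw
      obtain ⟨c', hc'⟩ := key w
      obtain ⟨c'', hc''⟩ := key (u + w)
      have h1 : (c'' - c') • w = (c - c'') • u := by
        rw [sub_smul, sub_smul, sub_eq_sub_iff_add_eq_add, ← hc', ← hc, ← smul_add, add_comm w u,
          ← smul_add, ← hc'']
      by_cases hne : c'' - c' = 0
      · rw [hne, zero_smul] at h1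
        have h2 : c - c'' = 0 := by
          by_contra h2
          apply hu
          rw [← one_smul (ZMod p) u, ← inv_mul_cancel₀ h2, mul_smul, ← h1, smul_zero]
        rw [hc', ← sub_eq_zero.1 hne, ← sub_eq_zero.1 h2]
      · exfalso
        apply hw
        have h2 : w = ((c'' - c')⁻¹ * (c - c'')) • u := by
          rw [mul_smul, ← h1, ← mul_smul, inv_mul_cancel₀ hne, one_smul]
        obtain ⟨k, hk⟩ := ZMod.intCast_surjective ((c'' - c')⁻¹ * (c - c''))
        rw [h2, ← hk, Int.cast_smul_eq_zsmul]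
        exact AddSubgroup.zsmul_mem_zmultiples u k
    have hall : ∀ v : V, x • v = c • v := by
      intro v
      by_cases hv : v ∈ AddSubgroup.zmultiples u
      · obtain ⟨k, rfl⟩ := AddSubgroup.mem_zmultiples_iff.1 hv
        rw [← Int.cast_smul_eq_zsmul (ZMod p), smul_comm c, ← hc, Int.cast_smul_eq_zsmul,
          Int.cast_smul_eq_zsmul, smul_comm x k u]
      · exact hall0 v hv
    obtain ⟨w, hw⟩ : ∃ w, B.f u w ≠ 1 := by
      by_contra hc0
      push Not at hc0
      exact hu (hX.nondeg u hc0)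
    have hcn : ∀ v : V, c • v = c.val • v := fun v => by
      conv_lhs => rw [← ZMod.natCast_zmod_val c, Nat.cast_smul_eq_nsmul]
    have h1 := hX.pres x u w
    rw [hall, hall, hcn, hcn, B.nsmul_left, B.nsmul_right, ← pow_mul] at h1
    have hord : orderOf (B.f u w) = p :=
      orderOf_eq_prime (by rw [← B.nsmul_left, hV, B.zero_left]) hw
    have h2 : c.val * c.val ≡ 1 [MOD p] := by
      have hfin : IsOfFinOrder (B.f u w) := orderOf_pos_iff.1 (by rw [hord]; exact hp.pos)
      have h4 := hfin.pow_eq_pow_iff_modEq.1 (h1.trans (pow_one (B.f u w)).symm)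
      rwa [hord] at h4
    have h3 : c * c = 1 := by
      have := (ZMod.natCast_eq_natCast_iff _ _ p).2 h2
      simpa using this
    rcases mul_self_eq_one_iff.1 h3 with h | h
    · exact Or.inl fun v => by rw [hall, h, one_smul]
    · exact Or.inr fun v => by rw [hall, h, neg_one_smul]
  have huniq : ∀ x y : X, (∀ v : V, x • v = y • v) → x = y := fun x y h => by
    have : x⁻¹ * y = 1 := hX.faithful _ fun v => by rw [mul_smul, ← h, inv_smul_smul]
    exact inv_mul_eq_one.1 this
  by_cases hp2 : p = 2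
  · rw [if_pos hp2, Set.ncard_le_one (Set.toFinite _)]
    intro x hx y hy
    have hneg : ∀ v : V, -v = v := fun v => by
      have h := hV v
      rw [hp2, two_nsmul] at h
      exact neg_eq_of_add_eq_zero_left h
    have h1 : ∀ z ∈ {x : X | ∀ v : V, x • v ∈ AddSubgroup.zmultiples v}, ∀ v : V, z • v = v :=
      fun z hz v => by
        rcases hpm z hz with h | h
        · exact h v
        · rw [h, hneg]
    exact huniq x y fun v => by rw [h1 x hx, h1 y hy]
  · rw [if_neg hp2]
    calc _ ≤ ({x : X | ∀ v : V, x • v = v} ∪ {x : X | ∀ v : V, x • v = -v}).ncard :=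
          Set.ncard_le_ncard hpm (Set.toFinite _)
      _ ≤ {x : X | ∀ v : V, x • v = v}.ncard + {x : X | ∀ v : V, x • v = -v}.ncard :=
          Set.ncard_union_le _ _
      _ ≤ 2 := by
          have h1 : {x : X | ∀ v : V, x • v = v}.ncard ≤ 1 := by
            rw [Set.ncard_le_one (Set.toFinite _)]
            exact fun a ha b hb => huniq a b fun v => (ha v).trans (hb v).symm
          have h2 : {x : X | ∀ v : V, x • v = -v}.ncard ≤ 1 := by
            rw [Set.ncard_le_one (Set.toFinite _)]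
            exact fun a ha b hb => huniq a b fun v => (ha v).trans (hb v).symm
          omega

/-- Class numbers of subgroups through centralisers of nonscalar elements. -/
theorem kbound_centralizer (hX : Preserves B X) {p d : ℕ} (hp : p.Prime) (hV : ∀ v : V, p • v = 0)
    (hd : Nat.card V = p ^ d) (hd2 : 2 ≤ d) :
    KBound X ((if p = 2 then 1 else 2) + (p ^ d - 1) * (∏ i ∈ Finset.Ico 2 d, p ^ (d - i)) - 1) := by
  haveI := Fact.mk hp
  refine kbound_of_centralizer {x : X | ∀ v : V, x • v ∈ AddSubgroup.zmultiples v} _ _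
    (Nat.mul_pos (Nat.sub_pos_of_lt (Nat.one_lt_pow (by omega) hp.one_lt))
      (Finset.prod_pos fun i _ => pow_pos hp.pos _))
    (hX.ncard_scalar_le hp hV hd hd2) (fun v => by rw [one_smul]; exact AddSubgroup.mem_zmultiples v)
    fun x hx => ?_
  simp only [Set.mem_setOf_eq, not_forall] at hx
  obtain ⟨v, hv⟩ := hx
  have hv0 : v ≠ 0 := fun h => hv (by rw [h, smul_zero]; exact AddSubgroup.zero_mem _)
  refine (card_le_mul_stab _ v {0}ᶜ fun g _ => fun h => hv0 ((smul_eq_zero_iff_eq g).1 h)).trans ?_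
  refine Nat.mul_le_mul (le_of_eq ?_) ?_
  · rw [Set.ncard_compl, Set.ncard_singleton, hd]
  · have hcard : Nat.card (AddSubgroup.zmultiples v ⊔ AddSubgroup.zmultiples (x • v) : AddSubgroup V)
        = p ^ 2 := by
      rw [card_sup_zmultiples hp hV _ hv, Nat.card_zmultiples, addOrderOf_eq_prime (hV v) hv0, sq]
    refine le_trans (Subgroup.card_le_of_le fun g hg => ?_) (hX.card_fix_le hp hV hd _ 2 hcard)
    rw [fixingSubgroup_sup]
    refine Subgroup.mem_inf.2 ⟨?_, ?_⟩
    · rw [mem_fixingSubgroup_iff]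
      intro y hy
      obtain ⟨k, rfl⟩ := AddSubgroup.mem_zmultiples_iff.1 hy
      rw [smul_comm g k v, MulAction.mem_stabilizer_iff.1 hg.2]
    · rw [MulAction.mem_stabilizer_iff, ← mul_smul,
        show g * x = x * g from Subgroup.mem_centralizer_singleton_iff.1 hg.1, mul_smul,
        MulAction.mem_stabilizer_iff.1 hg.2]

/-- Completely reducible solvable groups of isometries. -/
theorem card_le_of_triple (hX : Preserves B X) [Group.IsSolvable X] {p d : ℕ} (hp : p.Prime)
    (hd : Nat.card V = p ^ d) (hV : ∀ v : V, p • v = 0)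
    (hnd : ∀ U : AddSubgroup V, (∀ g : X, ∀ u ∈ U, g • u ∈ U) → B.NondegOn U) (hd1 : 1 ≤ d) :
    Nat.card X ≤ p ^ (3 * d - 1) := by
  haveI : FaithfulSMul X V := ⟨fun {x y} h => by
    have : x⁻¹ * y = 1 := hX.faithful _ fun v => by rw [mul_smul, ← h, inv_smul_smul]
    exact inv_mul_eq_one.1 this⟩
  obtain ⟨v1, v2, v3, hreg⟩ := S4374.result (A := X) (V := V) inferInstance fun U hU =>
    ⟨B.perp (U : Set V), fun g w hw u hu => by
      have h := hX.pres g w (g⁻¹ • u)
      rw [smul_inv_smul] at h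
      rw [h]; exact hw _ (hU g⁻¹ u hu), hnd U hU, Alt.sup_perp_eq_top hX.nondeg (hnd U hU)⟩
  obtain ⟨w1, hw1, hreg'⟩ : ∃ w1 : V, w1 ≠ 0 ∧
      ∀ g : X, g • w1 = w1 → g • v2 = v2 → g • v3 = v3 → g = 1 := by
    by_cases h : v1 = 0
    · haveI : Nontrivial V := Finite.one_lt_card_iff_nontrivial.1 (by
        rw [hd]; exact Nat.one_lt_pow (by omega) hp.one_lt)
      obtain ⟨w, hw⟩ := exists_ne (0 : V)
      exact ⟨w, hw, fun g _ h2 h3 => hreg g (by rw [h, smul_zero]) h2 h3⟩
    · exact ⟨v1, h, hreg⟩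
  haveI := Fact.mk hp
  have hzc : Nat.card (AddSubgroup.zmultiples w1) = p := by
    rw [Nat.card_zmultiples, addOrderOf_eq_prime (hV w1) hw1]
  have h1 := card_le_mul_stab (⊤ : Subgroup X) w1 Set.univ fun _ _ => trivial
  rw [Set.ncard_univ, top_inf_eq, Subgroup.card_top, hd] at h1
  have h2 := card_le_mul_stab (MulAction.stabilizer X w1) v2
    ((v2 + ·) '' (B.perp (AddSubgroup.zmultiples w1 : Set V) : Set V)) fun g hg =>
      ⟨g • v2 - v2, hX.smul_sub_mem_perp (by
        rw [mem_fixingSubgroup_iff]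
        intro y hy
        obtain ⟨k, rfl⟩ := AddSubgroup.mem_zmultiples_iff.1 hy
        rw [smul_comm g k w1, MulAction.mem_stabilizer_iff.1 hg]) v2, add_sub_cancel v2 (g • v2)⟩
  have h3 := card_le_mul_stab (MulAction.stabilizer X w1 ⊓ MulAction.stabilizer X v2) v3
    Set.univ fun _ _ => trivial
  have hbot : MulAction.stabilizer X w1 ⊓ MulAction.stabilizer X v2 ⊓ MulAction.stabilizer X v3 = ⊥ := by
    rw [eq_bot_iff]
    exact fun g hg => Subgroup.mem_bot.2 (hreg' g hg.1.1 hg.1.2 hg.2)
  rw [hbot, Subgroup.card_bot, mul_one, Set.ncard_univ, hd] at h3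
  have hperp : ((v2 + ·) '' (B.perp (AddSubgroup.zmultiples w1 : Set V) : Set V)).ncard ≤ p ^ (d - 1) := by
    refine (Set.ncard_image_le (Set.toFinite _)).trans (le_of_eq ?_)
    have h := Alt.card_mul_card_perp hX.nondeg (AddSubgroup.zmultiples w1)
    rw [hzc, hd, show p ^ d = p * p ^ (d - 1) by rw [← pow_succ', Nat.sub_add_cancel hd1]] at h
    exact Nat.eq_of_mul_eq_mul_left hp.pos h
  calc Nat.card X ≤ p ^ d * (p ^ (d - 1) * p ^ d) :=
        h1.trans (Nat.mul_le_mul_left _ (h2.trans (Nat.mul_le_mul hperp h3)))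
    _ = p ^ (3 * d - 1) := by rw [← pow_add, ← pow_add]; congr 1; omega

end Preserves

end Cfsg.Agent.H30.ClassFit
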