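import Cfsg.Agent.H30.ClassFit.KBound
import Cfsg.Agent.H30.ClassFit.Fix

/-!
The order of a primitive solvable permutation group of degree `t` is at most `3 ^ (t - 1)`.
-/

namespace Cfsg.Agent.H30.ClassFit

open Subgroup

theorem sq_le_three_pow {p : ℕ} (hp : 3 ≤ p) : p * p ≤ 3 ^ (p - 1) := by
  induction p, hp using Nat.le_induction with
  | base => norm_num
  | succ n hn ih =>
    rw [show n + 1 - 1 = (n - 1) + 1 by omega, pow_succ]
    nlinarith

theorem succ_le_pow {p : ℕ} (hp : 2 ≤ p) (i : ℕ) : i + 1 ≤ p ^ i :=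
  Nat.succ_le_of_lt (Nat.lt_pow_self (by omega))

/-- Numerical bound for affine groups. -/
theorem affine_le_three_pow {p d : ℕ} (hp : p.Prime) :
    p ^ d * ∏ i ∈ Finset.range d, (p ^ d - p ^ i) ≤ 3 ^ (p ^ d - 1) := by
  have hcrude : ∏ i ∈ Finset.range d, (p ^ d - p ^ i) ≤ p ^ (d * d) := by
    calc _ ≤ ∏ _i ∈ Finset.range d, p ^ d := Finset.prod_le_prod' fun i _ => Nat.sub_le _ _
      _ = p ^ (d * d) := by rw [Finset.prod_const, Finset.card_range, ← pow_mul]
  by_cases hp2 : p = 2
  · subst hp2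
    by_cases hd : d ≤ 3
    · interval_cases d <;> norm_num [Finset.prod_range_succ]
    · have key : ∀ n, 4 ≤ n → 2 ^ (n * (n + 1)) ≤ 3 ^ (2 ^ n - 1) := by
        intro n hn
        induction n, hn using Nat.le_induction with
        | base => norm_num
        | succ n hn ih =>
          calc 2 ^ ((n + 1) * (n + 1 + 1)) ≤ 2 ^ (2 * (n * (n + 1))) := by
                refine Nat.pow_le_pow_right (by norm_num) ?_
                nlinarith
            _ = (2 ^ (n * (n + 1))) ^ 2 := by rw [mul_comm 2, pow_mul]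
            _ ≤ (3 ^ (2 ^ n - 1)) ^ 2 := Nat.pow_le_pow_left ih 2
            _ ≤ 3 ^ (2 ^ (n + 1) - 1) := by
                rw [← pow_mul]
                refine Nat.pow_le_pow_right (by norm_num) ?_
                rw [pow_succ]
                omega
      calc 2 ^ d * _ ≤ 2 ^ d * 2 ^ (d * d) := Nat.mul_le_mul_left _ hcrude
        _ = 2 ^ (d * (d + 1)) := by rw [← pow_add]; congr 1; ring
        _ ≤ _ := key d (by omega)
  · have hp3 : 3 ≤ p := by have := hp.two_le; omega
    have h1 : ∑ i ∈ Finset.range d, (i + 1) ≤ ∑ i ∈ Finset.range d, p ^ i :=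
      Finset.sum_le_sum fun i _ => succ_le_pow hp.two_le i
    have h2 : ∀ n, ∑ i ∈ Finset.range n, (i + 1) * 2 = n * (n + 1) := by
      intro n
      induction n with
      | zero => rfl
      | succ n ih => rw [Finset.sum_range_succ, ih]; ring
    have h3 : (∑ i ∈ Finset.range d, p ^ i) * (p - 1) = p ^ d - 1 :=
      (mul_comm _ _).trans (by
        have := geom_sum_mul_of_one_le (x := p) (by omega) d
        rw [mul_comm]; exact this)
    calc p ^ d * _ ≤ p ^ d * p ^ (d * d) := Nat.mul_le_mul_left _ hcrude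
      _ = p ^ (∑ i ∈ Finset.range d, (i + 1) * 2) := by rw [h2, ← pow_add]; congr 1; ring
      _ = (p * p) ^ (∑ i ∈ Finset.range d, (i + 1)) := by
          rw [← Finset.sum_mul, mul_comm, pow_mul, sq]
      _ ≤ (3 ^ (p - 1)) ^ (∑ i ∈ Finset.range d, (i + 1)) :=
          Nat.pow_le_pow_left (sq_le_three_pow hp3) _
      _ ≤ (3 ^ (p - 1)) ^ (∑ i ∈ Finset.range d, p ^ i) :=
          Nat.pow_le_pow_right (Nat.pow_pos (by norm_num)) h1
      _ = _ := by rw [← pow_mul, mul_comm (p - 1), h3]

variable {G : Type*} [Group G] [Finite G] [Group.IsSolvable G]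

/-- An elementary abelian normal subgroup inside a nontrivial solvable group. -/
theorem exists_elementary_normal (G : Type*) [Group G] [Finite G] [Group.IsSolvable G]
    [Nontrivial G] : ∃ (q : ℕ) (A : Subgroup G), q.Prime ∧ A.Normal ∧ A ≠ ⊥ ∧
      (∀ a ∈ A, ∀ b ∈ A, a * b = b * a) ∧ ∀ a ∈ A, a ^ q = 1 := by
  obtain ⟨A, hA, hne, hc⟩ := Cores.exists_abelian_normal_ne_bot (G := G)
  haveI := hA
  haveI : Nontrivial A := (Subgroup.nontrivial_iff_ne_bot A).2 hne
  obtain ⟨q, hq, hdvd⟩ := Nat.exists_prime_and_dvd (Finite.one_lt_card (α := A)).ne'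
  haveI := Fact.mk hq
  have hcomm : ∀ a ∈ A, ∀ b ∈ A, a * b = b * a := fun a ha b hb =>
    congrArg Subtype.val (hc.is_comm.comm ⟨a, ha⟩ ⟨b, hb⟩)
  let Aq : Subgroup G :=
    { carrier := {x | x ∈ A ∧ x ^ q = 1}
      mul_mem' := fun {x y} hx hy => ⟨mul_mem hx.1 hy.1, by
        rw [(show Commute x y from hcomm x hx.1 y hy.1).mul_pow, hx.2, hy.2, one_mul]⟩
      one_mem' := ⟨one_mem A, one_pow q⟩
      inv_mem' := fun {x} hx => ⟨inv_mem hx.1, by rw [inv_pow, hx.2, inv_one]⟩ }
  refine ⟨q, Aq, hq, ⟨fun x hx g => ⟨Subgroup.Normal.conj_mem inferInstance x hx.1 g, by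
    rw [conj_pow, hx.2]; group⟩⟩, fun hbot => ?_, fun a ha b hb => hcomm a ha.1 b hb.1,
    fun a ha => ha.2⟩
  obtain ⟨x, hx⟩ := exists_prime_orderOf_dvd_card' (G := A) q hdvd
  have hxm : (x : G) ∈ Aq := ⟨x.2, by rw [← Subgroup.coe_pow, ← hx, pow_orderOf_eq_one]; rfl⟩
  rw [hbot, Subgroup.mem_bot] at hxm
  have : x = 1 := Subtype.ext hxm
  rw [this, orderOf_one] at hx
  exact hq.ne_one hx.symm

/-- A maximal subgroup `M` of a finite solvable group: the permutation group on its cosets
has order at most `3 ^ (t - 1)`. -/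
theorem card_quotient_core_le {M : Subgroup G} (hM : IsCoatom M) :
    Nat.card (G ⧸ M.normalCore) ≤ 3 ^ (M.index - 1) := by
  classical
  set K := M.normalCore with hKdef
  have hKM : K ≤ M := M.normalCore_le
  haveI : Nontrivial (G ⧸ K) := QuotientGroup.nontrivial_iff.2 fun h =>
    hM.1 (top_le_iff.1 (h ▸ hKM))
  obtain ⟨q, A, hq, hAn, hA1, hAc, hAq⟩ := exists_elementary_normal (G ⧸ K)
  haveI := hAn
  let π := QuotientGroup.mk' K
  let Mb : Subgroup (G ⧸ K) := M.map π
  have hcomap : Mb.comap π = M := by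
    rw [Subgroup.comap_map_eq, QuotientGroup.ker_mk']
    exact sup_eq_left.2 hKM
  have hMbne : ∀ N : Subgroup (G ⧸ K), N.Normal → N ≤ Mb → N = ⊥ := by
    intro N hN hle
    have h1 : N.comap π ≤ K := by
      haveI := hN.comap π
      refine Subgroup.normal_le_normalCore.2 ?_
      exact (Subgroup.comap_mono hle).trans hcomap.le
    rw [eq_bot_iff]
    intro x hx
    obtain ⟨g, rfl⟩ := QuotientGroup.mk'_surjective K x
    exact Subgroup.mem_bot.2 ((QuotientGroup.eq_one_iff g).2 (h1 hx))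
  have hsup : A ⊔ Mb = ⊤ := by
    have h1 : A.comap π ⊔ M = ⊤ := by
      refine hM.2 _ (lt_of_le_of_ne le_sup_right fun h => hA1 ?_)
      refine hMbne A hAn ?_
      intro x hx
      obtain ⟨g, rfl⟩ := QuotientGroup.mk'_surjective K x
      exact Subgroup.mem_map_of_mem π (h ▸ (le_sup_left : A.comap π ≤ A.comap π ⊔ M) hx)
    have h2 := congrArg (Subgroup.map π) h1
    rwa [Subgroup.map_sup, Subgroup.map_comap_eq_self_of_surjective (QuotientGroup.mk'_surjective K),
      Subgroup.map_top_of_surjective π (QuotientGroup.mk'_surjective K)] at h2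
  have hint : A ⊓ Mb = ⊥ := by
    refine hMbne _ ?_ inf_le_right
    rw [← Subgroup.normalizer_eq_top_iff, eq_top_iff, ← hsup, sup_le_iff]
    constructor
    · intro a ha
      rw [Subgroup.mem_normalizer_iff]
      intro x
      have main : ∀ b ∈ A, ∀ y ∈ A ⊓ Mb, b * y * b⁻¹ ∈ A ⊓ Mb := fun b hb y hy => by
        rw [hAc b hb y hy.1, mul_inv_cancel_right]; exact hy
      exact ⟨main a ha x, fun hx => by simpa [mul_assoc] using main a⁻¹ (inv_mem ha) _ hx⟩
    · intro a ha
      rw [Subgroup.mem_normalizer_iff]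
      intro x
      have main : ∀ b ∈ Mb, ∀ y ∈ A ⊓ Mb, b * y * b⁻¹ ∈ A ⊓ Mb := fun b hb y hy =>
        ⟨hAn.conj_mem y hy.1 b, Mb.mul_mem (Mb.mul_mem hb hy.2) (Mb.inv_mem hb)⟩
      exact ⟨main a ha x, fun hx => by simpa [mul_assoc] using main a⁻¹ (inv_mem ha) _ hx⟩
  have hidx : M.index = Nat.card A := by
    rw [(congrArg Subgroup.index hcomap).symm.trans
      (Subgroup.index_comap_of_surjective Mb (QuotientGroup.mk'_surjective K))]
    exact (Subgroup.isComplement'_of_disjoint_and_mul_eq_univ (disjoint_iff.2 hint)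
      (by rw [← Subgroup.normal_mul, hsup, Subgroup.coe_top])).index_eq_card
  haveI : Fact q.Prime := ⟨hq⟩
  letI : CommGroup A := { (inferInstance : Group A) with
    mul_comm := fun a b => Subtype.ext (hAc a a.2 b b.2) }
  letI : DistribMulAction Mb (Additive A) :=
    { smul := fun m a => Additive.ofMul (MulAut.conjNormal (m : G ⧸ K) a.toMul)
      one_smul := fun a => by
        change Additive.ofMul (MulAut.conjNormal (1 : G ⧸ K) a.toMul) = a
        rw [map_one]; rfl
      mul_smul := fun m n a => by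
        change Additive.ofMul (MulAut.conjNormal ((m : G ⧸ K) * (n : G ⧸ K)) a.toMul) = _
        rw [map_mul]; rfl
      smul_zero := fun m => by
        change Additive.ofMul (MulAut.conjNormal (m : G ⧸ K) 1) = 0
        rw [map_one]; rfl
      smul_add := fun m a b => by
        change Additive.ofMul (MulAut.conjNormal (m : G ⧸ K) (a.toMul * b.toMul)) = _
        rw [map_mul]; rfl }
  have hV : ∀ v : Additive A, q • v = 0 := fun v => by
    apply Additive.toMul.injective
    exact Subtype.ext (hAq _ v.toMul.2)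
  obtain ⟨d, hd⟩ := exists_card_eq_pow hq hV
  have hfaith : ∀ m : Mb, (∀ v : Additive A, m • v = v) → m = 1 := by
    intro m hm
    have hC : ((Subgroup.centralizer (A : Set (G ⧸ K))) ⊓ Mb) = ⊥ := by
      refine hMbne _ ?_ inf_le_right
      rw [← Subgroup.normalizer_eq_top_iff, eq_top_iff, ← hsup, sup_le_iff]
      constructor
      · intro a ha
        rw [Subgroup.mem_normalizer_iff]
        intro x
        have main : ∀ b ∈ A, ∀ y ∈ Subgroup.centralizer (A : Set (G ⧸ K)) ⊓ Mb,
            b * y * b⁻¹ ∈ Subgroup.centralizer (A : Set (G ⧸ K)) ⊓ Mb := fun b hb y hy => by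
          rw [Subgroup.mem_centralizer_iff.1 hy.1 b hb, mul_inv_cancel_right]; exact hy
        exact ⟨main a ha x, fun hx => by simpa [mul_assoc] using main a⁻¹ (inv_mem ha) _ hx⟩
      · intro a ha
        rw [Subgroup.mem_normalizer_iff]
        intro x
        have main : ∀ b ∈ Mb, ∀ y ∈ Subgroup.centralizer (A : Set (G ⧸ K)) ⊓ Mb,
            b * y * b⁻¹ ∈ Subgroup.centralizer (A : Set (G ⧸ K)) ⊓ Mb := fun b hb y hy =>
          ⟨(inferInstance : (Subgroup.centralizer (A : Set (G ⧸ K))).Normal).conj_mem y hy.1 b,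
            Mb.mul_mem (Mb.mul_mem hb hy.2) (Mb.inv_mem hb)⟩
        exact ⟨main a ha x, fun hx => by simpa [mul_assoc] using main a⁻¹ (inv_mem ha) _ hx⟩
    have hmem : (m : G ⧸ K) ∈ Subgroup.centralizer (A : Set (G ⧸ K)) ⊓ Mb := by
      refine ⟨Subgroup.mem_centralizer_iff.2 fun a ha => ?_, m.2⟩
      have h1 := congrArg (fun v : Additive A => ((v.toMul : A) : G ⧸ K))
        (hm (Additive.ofMul ⟨a, ha⟩))
      change (m : G ⧸ K) * a * (m : G ⧸ K)⁻¹ = a at h1
      rw [mul_inv_eq_iff_eq_mul] at h1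
      exact h1.symm
    rw [hC, Subgroup.mem_bot] at hmem
    exact Subtype.ext hmem
  have hMcard : Nat.card Mb ≤ ∏ i ∈ Finset.range d, (q ^ d - q ^ i) :=
    card_le_prod_GL hq hV hd hfaith
  have hA : Nat.card A = q ^ d := (Nat.card_congr Additive.ofMul).trans hd
  rw [← Subgroup.card_mul_index Mb, mul_comm, hidx, hA]
  have : Mb.index = q ^ d := by
    rw [← hA, ← hidx]
    exact ((congrArg Subgroup.index hcomap).symm.trans
      (Subgroup.index_comap_of_surjective Mb (QuotientGroup.mk'_surjective K))).symm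
  rw [this]
  exact (Nat.mul_le_mul_left _ hMcard).trans (affine_le_three_pow hq)

end Cfsg.Agent.H30.ClassFit
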