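import Cfsg.Agent.H30.ClassFit.Primitive
import Cfsg.Agent.H30.ClassFit.Perm

/-!
Class numbers of finite solvable complex linear groups modulo the Fitting subgroup.
-/

namespace Cfsg.Agent.H30.ClassFit

universe u v

/-- The bound in dimensions below `r`. -/
def BoundBelow (r : ℕ) : Prop :=
  ∀ (G : Type u) [Group G] [Finite G] [Group.IsSolvable G] (V : Type v) [AddCommGroup V] [Module ℂ V]
    [FiniteDimensional ℂ V] (ρ : G →* Module.End ℂ V), Function.Injective ρ →
    Module.finrank ℂ V < r → KBound (G ⧸ Cfsg.fittingSubgroup G) (3 ^ (Module.finrank ℂ V - 1))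

section Restrict

variable {G : Type u} [Group G] {V : Type v} [AddCommGroup V] [Module ℂ V]

/-- The action on an invariant submodule. -/
def restrictHom (ρ : G →* Module.End ℂ V) (W : Submodule ℂ V) (h : ∀ g, ∀ w ∈ W, ρ g w ∈ W) :
    G →* Module.End ℂ W where
  toFun g := (ρ g).restrict (h g)
  map_one' := LinearMap.ext fun w => Subtype.ext (by simp)
  map_mul' a b := LinearMap.ext fun w => Subtype.ext (by simp)

theorem restrictHom_apply (ρ : G →* Module.End ℂ V) (W : Submodule ℂ V)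
    (h : ∀ g, ∀ w ∈ W, ρ g w ∈ W) (g : G) (w : W) : (restrictHom ρ W h g w : V) = ρ g w := rfl

/-- Invariant pieces spanning the space. -/
theorem kbound_pieces [Finite G] [Group.IsSolvable G] [FiniteDimensional ℂ V] {r : ℕ}
    (hb : BoundBelow.{u, v} r) (ρ : G →* Module.End ℂ V) (hρ : Function.Injective ρ) {ι : Type*}
    [Fintype ι] (W : ι → Submodule ℂ V) (hW : ∀ i g, ∀ w ∈ W i, ρ g w ∈ W i)
    (hlt : ∀ i, Module.finrank ℂ (W i) < r) (hsup : ⨆ i, W i = ⊤) :
    KBound (G ⧸ Cfsg.fittingSubgroup G) (3 ^ ∑ i, (Module.finrank ℂ (W i) - 1)) := by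
  rw [← Finset.prod_pow_eq_pow_sum]
  let N : ι → Subgroup G := fun i => (restrictHom ρ (W i) (hW i)).ker
  haveI hNn : ∀ i, (N i).Normal := fun i => MonoidHom.normal_ker _
  have key := @kbound_quotient_fitting_pi G _ _ ι _ (fun i => G ⧸ N i) (fun i => inferInstance)
    (fun i => inferInstance) _ (fun i => 3 ^ (Module.finrank ℂ (W i) - 1))
    (fun i => QuotientGroup.mk' (N i)) (fun i => QuotientGroup.mk'_surjective (N i))
  refine key (fun g hg => ?_) fun i => ?_
  · apply hρ
    rw [map_one]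
    refine LinearMap.ext fun v => ?_
    have hle : (⨆ i, W i) ≤ LinearMap.eqLocus (ρ g) 1 := iSup_le fun i w hw => by
      have h1 : restrictHom ρ (W i) (hW i) g = 1 :=
        MonoidHom.mem_ker.1 ((QuotientGroup.eq_one_iff g).1 (hg i))
      have h2 := congrArg Subtype.val (LinearMap.congr_fun h1 ⟨w, hw⟩)
      exact h2
    rw [hsup] at hle
    exact hle (Submodule.mem_top (x := v))
  · haveI : Group.IsSolvable (G ⧸ N i) :=
      Group.isSolvable_of_surjective (QuotientGroup.mk'_surjective (N i))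
    let φ : G ⧸ N i →* Module.End ℂ (W i) :=
      QuotientGroup.lift (N i) (restrictHom ρ (W i) (hW i)) le_rfl
    have hφ : Function.Injective φ := by
      intro x y hxy
      induction x using QuotientGroup.induction_on with
      | _ a =>
        induction y using QuotientGroup.induction_on with
        | _ b =>
          rw [QuotientGroup.eq]
          change a⁻¹ * b ∈ (restrictHom ρ (W i) (hW i)).ker
          rw [MonoidHom.mem_ker, map_mul]
          change restrictHom ρ (W i) (hW i) a = restrictHom ρ (W i) (hW i) b at hxy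
          rw [← hxy, ← map_mul, inv_mul_cancel, map_one]
    exact hb (G ⧸ N i) (W i) φ hφ (hlt i)

theorem rho_inv_apply (ρ : G →* Module.End ℂ V) (g : G) (v : V) : ρ g⁻¹ (ρ g v) = v := by
  rw [← Module.End.mul_apply, ← map_mul, inv_mul_cancel, map_one, Module.End.one_apply]

theorem rho_apply_inv (ρ : G →* Module.End ℂ V) (g : G) (v : V) : ρ g (ρ g⁻¹ v) = v := by
  rw [← Module.End.mul_apply, ← map_mul, mul_inv_cancel, map_one, Module.End.one_apply]

/-- Maschke, by averaging. -/
theorem exists_invariant_complement [Finite G] (ρ : G →* Module.End ℂ V) (W : Submodule ℂ V)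
    (hW : ∀ g, ∀ w ∈ W, ρ g w ∈ W) :
    ∃ W' : Submodule ℂ V, (∀ g, ∀ w ∈ W', ρ g w ∈ W') ∧ IsCompl W W' := by
  haveI := Fintype.ofFinite G
  obtain ⟨Q, hQ⟩ := W.exists_isCompl
  let π : Module.End ℂ V := W.subtype.comp (W.projectionOnto Q hQ)
  have hπmem : ∀ v, π v ∈ W := fun v => Submodule.coe_mem _
  have hπid : ∀ w ∈ W, π w = w := fun w hw => by
    change ((W.projectionOnto Q hQ) ((⟨w, hw⟩ : W) : V) : V) = w
    rw [Submodule.projectionOnto_apply_left]
  let P : Module.End ℂ V := (Fintype.card G : ℂ)⁻¹ • ∑ g : G, ρ g * π * ρ g⁻¹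
  have hcard : (Fintype.card G : ℂ) ≠ 0 := Nat.cast_ne_zero.2 Fintype.card_ne_zero
  have hPmem : ∀ v, P v ∈ W := fun v => by
    change ((Fintype.card G : ℂ)⁻¹ • ∑ g : G, ρ g * π * ρ g⁻¹) v ∈ W
    rw [LinearMap.smul_apply, LinearMap.sum_apply]
    exact W.smul_mem _ (sum_mem fun g _ => hW g _ (hπmem _))
  have hPid : ∀ w ∈ W, P w = w := fun w hw => by
    change ((Fintype.card G : ℂ)⁻¹ • ∑ g : G, ρ g * π * ρ g⁻¹) w = w
    rw [LinearMap.smul_apply, LinearMap.sum_apply]
    have h1 : ∀ g : G, (ρ g * π * ρ g⁻¹) w = w := fun g => by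
      rw [Module.End.mul_apply, Module.End.mul_apply, hπid _ (hW _ w hw), rho_apply_inv]
    simp only [h1, Finset.sum_const, Finset.card_univ]
    rw [← Nat.cast_smul_eq_nsmul ℂ, smul_smul, inv_mul_cancel₀ hcard, one_smul]
  have hcomm : ∀ h : G, ρ h * P = P * ρ h := fun h => by
    simp only [P, mul_smul_comm, smul_mul_assoc, Finset.mul_sum, Finset.sum_mul]
    congr 1
    refine Fintype.sum_equiv (Equiv.mulLeft h) _ _ fun g => ?_
    change ρ h * (ρ g * π * ρ g⁻¹) = ρ (h * g) * π * ρ (h * g)⁻¹ * ρ h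
    rw [mul_assoc (ρ (h * g) * π), ← map_mul, mul_inv_rev, inv_mul_cancel_right, map_mul,
      mul_assoc, mul_assoc, mul_assoc]
  refine ⟨LinearMap.ker P, fun g v hv => ?_, ?_⟩
  · rw [LinearMap.mem_ker] at hv ⊢
    rw [← Module.End.mul_apply, ← hcomm, Module.End.mul_apply, hv, map_zero]
  · constructor
    · rw [Submodule.disjoint_def]
      intro w hw hw'
      rw [LinearMap.mem_ker, hPid w hw] at hw'
      exact hw'
    · rw [codisjoint_iff, eq_top_iff]
      intro v _
      refine Submodule.mem_sup.2 ⟨P v, hPmem v, v - P v, ?_, add_sub_cancel _ _⟩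
      rw [LinearMap.mem_ker, map_sub, hPid _ (hPmem v), sub_self]

end Restrict

/-- The imprimitive case. -/
theorem kbound_imprimitive {G : Type u} [Group G] [Finite G] [Group.IsSolvable G] {V : Type v}
    [AddCommGroup V] [Module ℂ V] [FiniteDimensional ℂ V] [Nontrivial V]
    (hb : BoundBelow.{u, v} (Module.finrank ℂ V)) (ρ : G →* Module.End ℂ V)
    (hρ : Function.Injective ρ)
    (hirr : ∀ W : Submodule ℂ V, (∀ g, ∀ w ∈ W, ρ g w ∈ W) → W = ⊥ ∨ W = ⊤)
    (A : Subgroup G) [A.Normal] (hAc : ∀ a ∈ A, ∀ b ∈ A, a * b = b * a)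
    {a0 : G} (ha0 : a0 ∈ A) (hns : ∀ c : ℂ, ρ a0 ≠ c • 1) :
    KBound (G ⧸ Cfsg.fittingSubgroup G) (3 ^ (Module.finrank ℂ V - 1)) := by
  classical
  haveI := Fintype.ofFinite A
  -- a common eigenvector
  let Fam : Set (Submodule ℂ V) := {W | W ≠ ⊥ ∧ ∀ a ∈ A, ∀ w ∈ W, ρ a w ∈ W}
  obtain ⟨W0, ⟨hW0ne, hW0inv⟩, hW0min⟩ := WellFounded.has_min wellFounded_lt Fam
    ⟨⊤, top_ne_bot, fun _ _ _ _ => Submodule.mem_top⟩
  obtain ⟨w0, hw0, hw0ne⟩ := W0.exists_mem_ne_zero_of_ne_bot hW0ne
  haveI : Nontrivial W0 := ⟨⟨⟨w0, hw0⟩, 0, fun h => hw0ne (congrArg Subtype.val h)⟩⟩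
  have hscal : ∀ a : A, ∃ μ : ℂ, ∀ w ∈ W0, ρ a w = μ • w := by
    intro a
    obtain ⟨μ, hμ⟩ := Module.End.exists_eigenvalue ((ρ a).restrict (hW0inv a a.2))
    obtain ⟨⟨w, hw⟩, hwv⟩ := hμ.exists_hasEigenvector
    let E : Submodule ℂ V := W0 ⊓ LinearMap.ker (ρ a - μ • 1)
    have hEmem : ∀ x, x ∈ LinearMap.ker (ρ a - μ • 1) ↔ ρ a x = μ • x := fun x => by
      rw [LinearMap.mem_ker, LinearMap.sub_apply, sub_eq_zero]; rfl
    have hE : E ∈ Fam := by
      refine ⟨fun h => hwv.2 (Subtype.ext ?_), fun b hb x hx => ⟨hW0inv b hb x hx.1, (hEmem _).2 ?_⟩⟩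
      · have h1 : w ∈ E := ⟨hw, (hEmem _).2 (congrArg Subtype.val hwv.apply_eq_smul)⟩
        rw [h, Submodule.mem_bot] at h1
        exact h1
      · rw [← Module.End.mul_apply, ← map_mul, hAc a a.2 b hb, map_mul, Module.End.mul_apply,
          (hEmem x).1 hx.2, map_smul]
    have hEW : E = W0 := by
      rcases eq_or_lt_of_le (inf_le_left : E ≤ W0) with h | h
      · exact h
      · exact absurd h (hW0min E hE)
    exact ⟨μ, fun x hx => (hEmem x).1 (hEW.symm ▸ hx : x ∈ E).2⟩
  choose μ hμ using hscal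
  have hinj : ∀ {a b : ℂ}, a • w0 = b • w0 → a = b := fun h => smul_left_injective ℂ hw0ne h
  let χ : A →* ℂ :=
    { toFun := μ
      map_one' := hinj (by
        rw [← hμ 1 w0 hw0, one_smul, OneMemClass.coe_one, map_one, Module.End.one_apply])
      map_mul' := fun a b => hinj (by
        rw [← hμ (a * b) w0 hw0, Subgroup.coe_mul, map_mul, Module.End.mul_apply, hμ b w0 hw0,
          map_smul, hμ a w0 hw0, smul_smul, mul_comm]) }
  -- eigenspaces of characters and their translates
  let cnj : G → A →* A := fun g => ((MulAut.conjNormal g : A ≃* A) : A →* A)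
  let tw : G → (A →* ℂ) → (A →* ℂ) := fun g ψ => ψ.comp (cnj g⁻¹)
  have htw_mul : ∀ g h ψ, tw (g * h) ψ = tw g (tw h ψ) := fun g h ψ => MonoidHom.ext fun a => by
    refine congrArg ψ (Subtype.ext ?_)
    change (g * h)⁻¹ * (a : G) * ((g * h)⁻¹)⁻¹ = h⁻¹ * (g⁻¹ * (a : G) * g⁻¹⁻¹) * h⁻¹⁻¹
    group
  have htw_one : ∀ ψ, tw 1 ψ = ψ := fun ψ => MonoidHom.ext fun a => by
    refine congrArg ψ (Subtype.ext ?_)
    change (1 : G)⁻¹ * (a : G) * ((1 : G)⁻¹)⁻¹ = a
    group
  let E : (A →* ℂ) → Submodule ℂ V := fun ψ => ⨅ a : A, LinearMap.ker (ρ (a : G) - ψ a • 1)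
  have hE : ∀ ψ x, x ∈ E ψ ↔ ∀ a : A, ρ (a : G) x = ψ a • x := fun ψ x => by
    simp only [E, Submodule.mem_iInf, LinearMap.mem_ker, LinearMap.sub_apply, sub_eq_zero]
    exact Iff.rfl
  have hEmap : ∀ g ψ x, x ∈ E ψ → ρ g x ∈ E (tw g ψ) := fun g ψ x hx => (hE _ _).2 fun a => by
    have h1 : (a : G) * g = g * ((cnj g⁻¹ a : A) : G) := by
      change (a : G) * g = g * (g⁻¹ * (a : G) * g⁻¹⁻¹)
      group
    rw [← Module.End.mul_apply, ← map_mul, h1, map_mul, Module.End.mul_apply, (hE _ _).1 hx, map_smul]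
    rfl
  let M0 : Subgroup G :=
    { carrier := {g | tw g χ = χ}
      one_mem' := htw_one χ
      mul_mem' := fun {a b} (ha : tw a χ = χ) (hb : tw b χ = χ) => by
        change tw (a * b) χ = χ
        rw [htw_mul, hb, ha]
      inv_mem' := fun {a} (ha : tw a χ = χ) => by
        change tw a⁻¹ χ = χ
        conv_lhs => rw [← ha]
        rw [← htw_mul, inv_mul_cancel, htw_one] }
  have hw0E : w0 ∈ E χ := (hE _ _).2 fun a => hμ a w0 hw0
  have hM0 : M0 ≠ ⊤ := fun h => by
    rcases hirr (E χ) (fun g x hx => by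
      have h1 : tw g χ = χ := (h ▸ Subgroup.mem_top g : g ∈ M0)
      exact h1 ▸ hEmap g χ x hx) with h1 | h1
    · exact hw0ne (by rw [← Submodule.mem_bot ℂ, ← h1]; exact hw0E)
    · refine hns (χ ⟨a0, ha0⟩) (LinearMap.ext fun x => ?_)
      exact (hE _ _).1 (h1 ▸ Submodule.mem_top : x ∈ E χ) ⟨a0, ha0⟩
  obtain ⟨M, hM, hM0M⟩ := (eq_top_or_exists_le_coatom M0).resolve_left hM0
  -- the blocks
  let U : Submodule ℂ V := ⨆ g : M, (E χ).map (ρ (g : G))
  have hUle : ∀ (g : G) (m : M) (X : Submodule ℂ V),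
      (E χ).map (ρ (g * m)) ≤ X ↔ ∀ x ∈ E χ, ρ g (ρ (m : G) x) ∈ X := fun g m X => by
    rw [Submodule.map_le_iff_le_comap]
    constructor
    · intro h x hx; rw [← Module.End.mul_apply, ← map_mul]; exact h hx
    · intro h x hx; rw [Submodule.mem_comap, map_mul, Module.End.mul_apply]; exact h x hx
  have hUsub : ∀ (g : G) (X : Submodule ℂ V), U.map (ρ g) ≤ X ↔
      ∀ (m : M), ∀ x ∈ E χ, ρ (g * m) x ∈ X := fun g X => by
    rw [Submodule.map_le_iff_le_comap, iSup_le_iff]
    refine forall_congr' fun m => ?_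
    rw [Submodule.map_le_iff_le_comap]
    exact forall₂_congr fun x _ => by rw [map_mul]; rfl
  haveI := Fintype.ofFinite (G ⧸ M)
  let Uq : G ⧸ M → Submodule ℂ V := fun q => U.map (ρ q.out)
  have hmove : ∀ (g : G) (q : G ⧸ M), ∀ x ∈ Uq q, ρ g x ∈ Uq (g • q) := by
    intro g q
    have hle : Uq q ≤ (Uq (g • q)).comap (ρ g) := (hUsub _ _).2 fun m x hx => by
      rw [Submodule.mem_comap, ← Module.End.mul_apply, ← map_mul]
      have hmem : (g • q).out⁻¹ * (g * (q.out * m)) ∈ M := by
        have h1 : (((g • q).out : G) : G ⧸ M) = ((g * (q.out * m) : G) : G ⧸ M) := by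
          rw [QuotientGroup.out_eq', ← smul_eq_mul g, ← MulAction.Quotient.smul_coe,
            QuotientGroup.mk_mul_of_mem _ m.2, QuotientGroup.out_eq']
        exact QuotientGroup.eq.1 h1
      have h := (hUsub (g • q).out (Uq (g • q))).1 le_rfl ⟨_, hmem⟩ x hx
      rwa [mul_inv_cancel_left] at h
    exact fun x hx => hle hx
  have hne : ∀ q, Uq q ≠ ⊥ := fun q h => hw0ne (by
    have h1 : ρ (q.out * ((1 : M) : G)) w0 ∈ (⊥ : Submodule ℂ V) :=
      h ▸ (hUsub _ _).1 le_rfl 1 w0 hw0E
    rw [Submodule.mem_bot, OneMemClass.coe_one, mul_one] at h1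
    rw [← rho_inv_apply ρ q.out w0, h1, map_zero])
  have hsup : ⨆ q, Uq q = ⊤ := by
    rcases hirr (⨆ q, Uq q) (fun g x hx => by
      have hle : (⨆ q, Uq q) ≤ (⨆ q, Uq q).comap (ρ g) :=
        iSup_le fun q y hy => Submodule.mem_iSup_of_mem (g • q) (hmove g q y hy)
      exact hle hx) with h | h
    · exact absurd (eq_bot_iff.2 (h ▸ le_iSup Uq ((1 : G) : G ⧸ M))) (hne _)
    · exact h
  -- independence through projections
  let proj : (A →* ℂ) → Module.End ℂ V := fun ψ => ∑ a : A, (ψ a)⁻¹ • ρ (a : G)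
  have hproj : ∀ ψ φ : A →* ℂ, ∀ x ∈ E φ, proj ψ x = (∑ a : A, (ψ a)⁻¹ * φ a) • x := by
    intro ψ φ x hx
    simp only [proj, LinearMap.sum_apply, LinearMap.smul_apply, (hE _ _).1 hx, smul_smul,
      Finset.sum_smul]
  have hψne : ∀ (ψ : A →* ℂ) (a : A), ψ a ≠ 0 := fun ψ a h => by
    have : ψ (a * a⁻¹) = 0 := by rw [map_mul, h, zero_mul]
    rw [mul_inv_cancel, map_one] at this
    exact one_ne_zero this
  have horth : ∀ ψ φ : A →* ℂ, ∑ a : A, (ψ a)⁻¹ * φ a = if ψ = φ then (Fintype.card A : ℂ) else 0 := by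
    intro ψ φ
    split_ifs with h
    · subst h
      simp [inv_mul_cancel₀ (hψne ψ _)]
    · let k : A →* ℂ :=
        { toFun := fun a => (ψ a)⁻¹ * φ a
          map_one' := by simp
          map_mul' := fun a b => by rw [map_mul, map_mul, mul_inv, mul_mul_mul_comm] }
      refine sum_hom_units_eq_zero k fun hk => h (MonoidHom.ext fun a => ?_)
      have h1 : (ψ a)⁻¹ * φ a = 1 := DFunLike.congr_fun hk a
      rw [← mul_one (ψ a), ← h1, mul_inv_cancel_left₀ (hψne ψ a)]
  haveI := Fintype.ofFinite G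
  let S : G ⧸ M → Finset (A →* ℂ) := fun q =>
    (Finset.univ.filter fun g : G => (g : G ⧸ M) = q).image fun g => tw g χ
  let P : G ⧸ M → Module.End ℂ V := fun q => ∑ ψ ∈ S q, proj ψ
  have hP : ∀ q q', ∀ x ∈ Uq q', P q x = if q = q' then (Fintype.card A : ℂ) • x else 0 := by
    intro q q'
    let D : Submodule ℂ V := LinearMap.eqLocus (P q)
      (if q = q' then (Fintype.card A : ℂ) • (1 : Module.End ℂ V) else 0)
    have hle : Uq q' ≤ D := (hUsub _ _).2 fun m x hx => by
      have hmem := hEmap (q'.out * m) χ x hx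
      have hq' : ((q'.out * m : G) : G ⧸ M) = q' := by
        rw [QuotientGroup.mk_mul_of_mem _ m.2, QuotientGroup.out_eq']
      have h1 : P q (ρ (q'.out * m) x) =
          (∑ ψ ∈ S q, if ψ = tw (q'.out * m) χ then (Fintype.card A : ℂ) else 0) •
            ρ (q'.out * m) x := by
        simp only [P, LinearMap.sum_apply, hproj _ _ _ hmem, horth, Finset.sum_smul]
      change P q _ = (if q = q' then (Fintype.card A : ℂ) • (1 : Module.End ℂ V) else 0) _
      rw [h1, Finset.sum_ite_eq']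
      by_cases h : q = q'
      · rw [if_pos h, if_pos]
        · rfl
        · subst h
          exact Finset.mem_image.2 ⟨_, Finset.mem_filter.2 ⟨Finset.mem_univ _, hq'⟩, rfl⟩
      · rw [if_neg h, if_neg, zero_smul]
        · rfl
        · intro hin
          obtain ⟨g, hg, hge⟩ := Finset.mem_image.1 hin
          apply h
          rw [← (Finset.mem_filter.1 hg).2, ← hq', QuotientGroup.eq]
          refine hM0M ?_
          change tw (g⁻¹ * (q'.out * m)) χ = χ
          rw [htw_mul, ← hge, ← htw_mul, inv_mul_cancel, htw_one]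
    intro x hx
    have h := hle hx
    change P q x = (if q = q' then (Fintype.card A : ℂ) • (1 : Module.End ℂ V) else 0) x at h
    rw [h]
    split_ifs <;> rfl
  let Φ : (∀ q, Uq q) →ₗ[ℂ] V :=
    { toFun := fun w => ∑ q, (w q : V)
      map_add' := fun w w' => by simp [Finset.sum_add_distrib]
      map_smul' := fun c w => by simp [Finset.smul_sum] }
  have hΦ : Function.Injective Φ := (injective_iff_map_eq_zero Φ).2 fun w hw => funext fun q => by
    have h := congrArg (P q) (hw : ∑ q', (w q' : V) = 0)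
    change P q (∑ q', (w q' : V)) = P q 0 at h
    rw [map_sum, map_zero, Finset.sum_eq_single q (fun q' _ hne' => by
      rw [hP q q' _ (w q').2, if_neg (Ne.symm hne')]) (fun hq => absurd (Finset.mem_univ q) hq),
      hP q q _ (w q).2, if_pos rfl, smul_eq_zero] at h
    exact Subtype.ext (h.resolve_left (Nat.cast_ne_zero.2 Fintype.card_ne_zero))
  have hdimq : ∀ q, Module.finrank ℂ (Uq q) = Module.finrank ℂ U := fun q =>
    (LinearEquiv.finrank_eq (Submodule.equivMapOfInjective (ρ q.out)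
      (Function.LeftInverse.injective (rho_inv_apply ρ q.out)) U)).symm
  have hdim : M.index * Module.finrank ℂ U ≤ Module.finrank ℂ V := by
    have h := LinearMap.finrank_le_finrank_of_injective hΦ
    rw [Module.finrank_pi_fintype] at h
    simpa [hdimq, Subgroup.index_eq_card, Nat.card_eq_fintype_card] using h
  have ht : 1 < M.index := by
    rw [Nat.one_lt_iff_ne_zero_and_ne_one]
    exact ⟨Subgroup.index_ne_zero_of_finite, fun h => hM.1 (Subgroup.index_eq_one.1 h)⟩
  have hu : 1 ≤ Module.finrank ℂ U := by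
    rw [← hdimq ((1 : G) : G ⧸ M), Submodule.one_le_finrank_iff]
    exact hne _
  -- the base
  haveI : Group.IsSolvable M.normalCore := inferInstance
  have hbase : KBound (M.normalCore ⧸ Cfsg.fittingSubgroup M.normalCore)
      (3 ^ ∑ q, (Module.finrank ℂ (Uq q) - 1)) := by
    refine kbound_pieces hb (ρ.comp M.normalCore.subtype) (hρ.comp M.normalCore.subtype_injective) Uq
      (fun q b x hx => ?_) (fun q => ?_) hsup
    · have h := hmove b q x hx
      have hbq : (b : G) • q = q := by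
        conv_lhs => rw [← QuotientGroup.out_eq' q, MulAction.Quotient.smul_coe, smul_eq_mul]
        conv_rhs => rw [← QuotientGroup.out_eq' q]
        rw [eq_comm, QuotientGroup.eq]
        have h1 := M.normalCore_le ((inferInstance : M.normalCore.Normal).conj_mem _ b.2 q.out⁻¹)
        simpa [mul_assoc] using h1
      rwa [hbq] at h
    · rw [hdimq]
      nlinarith
  refine (kbound_quotient_fitting_normal M.normalCore hbase
    (KBound.of_card (card_quotient_core_le hM))).mono_n ?_
  rw [← pow_add]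
  refine Nat.pow_le_pow_right (by norm_num) ?_
  simp only [hdimq, Finset.sum_const, Finset.card_univ, smul_eq_mul]
  rw [← Nat.card_eq_fintype_card, ← Subgroup.index_eq_card, Nat.mul_sub, mul_one]
  have : M.index ≤ M.index * Module.finrank ℂ U := Nat.le_mul_of_pos_right _ hu
  omega

/-- The bound in every dimension. -/
theorem boundBelow : ∀ r, BoundBelow.{u, v} r := by
  intro r
  induction r with
  | zero => intro G _ _ _ V _ _ _ ρ _ h; exact absurd h (Nat.not_lt_zero _)
  | succ r ih =>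
    intro G _ _ _ V _ _ _ ρ hρ hr
    rcases Nat.lt_or_ge (Module.finrank ℂ V) r with h | h
    · exact ih G V ρ hρ h
    have hrk : Module.finrank ℂ V = r := by omega
    rcases subsingleton_or_nontrivial V with hs | hnt
    · haveI : Subsingleton (Module.End ℂ V) := ⟨fun a b => LinearMap.ext fun x => Subsingleton.elim _ _⟩
      haveI : Subsingleton G := hρ.subsingleton
      refine KBound.of_card ?_
      rw [Nat.card_of_subsingleton (1 : G ⧸ Cfsg.fittingSubgroup G)]
      exact Nat.one_le_pow _ _ (by norm_num)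
    rw [← hrk] at ih
    by_cases hirr : ∀ W : Submodule ℂ V, (∀ g, ∀ w ∈ W, ρ g w ∈ W) → W = ⊥ ∨ W = ⊤
    · by_cases hprim : ∀ A : Subgroup G, A.Normal → (∀ a ∈ A, ∀ b ∈ A, a * b = b * a) →
          ∀ a ∈ A, ∃ c : ℂ, ρ a = c • 1
      · exact kbound_primitive ρ hρ hprim
      · push Not at hprim
        obtain ⟨A, hA, hAc, a, ha, hns⟩ := hprim
        haveI := hA
        exact kbound_imprimitive ih ρ hρ hirr A hAc ha hns
    · push Not at hirr
      obtain ⟨W, hW, hWb, hWt⟩ := hirr
      obtain ⟨W', hW', hcompl⟩ := exists_invariant_complement ρ W hW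
      have hdim := Submodule.finrank_add_eq_of_isCompl hcompl
      have hW'b : W' ≠ ⊥ := fun h => hWt (by
        have := hcompl.sup_eq_top
        rwa [h, sup_bot_eq] at this)
      have h1 := Submodule.one_le_finrank_iff.2 hWb
      have h2 := Submodule.one_le_finrank_iff.2 hW'b
      let Ws : Fin 2 → Submodule ℂ V := ![W, W']
      refine (kbound_pieces ih ρ hρ Ws (fun i => ?_) (fun i => ?_) ?_).mono_n
        (Nat.pow_le_pow_right (by norm_num) ?_)
      · fin_cases i
        · exact hW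
        · exact hW'
      · fin_cases i
        · change Module.finrank ℂ W < _; omega
        · change Module.finrank ℂ W' < _; omega
      · rw [eq_top_iff, ← hcompl.sup_eq_top]
        exact sup_le (le_iSup Ws 0) (le_iSup Ws 1)
      · rw [Fin.sum_univ_two]
        change Module.finrank ℂ W - 1 + (Module.finrank ℂ W' - 1) ≤ _
        omega

end Cfsg.Agent.H30.ClassFit
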