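import Cfsg.Agent.H30.ClassFit.Fixed

/-!
Isometry groups with a fixed-point-free normal subgroup of prime order, field with two elements.
-/

namespace Cfsg.Agent.H30.ClassFit

open scoped Pointwise

variable {X V : Type*} [Group X] [Finite X] [AddCommGroup V] [Finite V] [DistribMulAction X V]
  {B : Alt V}

/-- A fixed-point-free element of prime order. -/
structure FPF (V : Type*) [AddCommGroup V] [DistribMulAction X V] (τ : X) (q : ℕ) : Prop where
  prime : q.Prime
  pow : τ ^ q = 1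
  free : ∀ v : V, τ • v = v → v = 0

/-- The vectors not orthogonal to their translate. -/
def aniso (B : Alt V) (τ : X) (U : AddSubgroup V) : Set V := {v | v ∈ U ∧ B.f v (τ • v) ≠ 1}

/-- The vectors orthogonal to their translate. -/
def iso (B : Alt V) (τ : X) (U : AddSubgroup V) : Set V := {v | v ∈ U ∧ B.f v (τ • v) = 1}

/-- The smallest subgroup containing `v` and its translate. -/
def span2 (τ : X) (v : V) : AddSubgroup V :=
  AddSubgroup.zmultiples v ⊔ AddSubgroup.zmultiples (τ • v)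

theorem card_modEq_one {τ : X} {q : ℕ} (hτ : FPF V τ q) (U : AddSubgroup V)
    (hU : ∀ u ∈ U, τ • u ∈ U) : Nat.card U ≡ 1 [MOD q] := by
  haveI := Fact.mk hτ.prime
  let S : Subgroup X :=
    { carrier := {g | ∀ u ∈ U, g • u ∈ U}
      mul_mem' := fun {a b} ha hb u hu => by rw [mul_smul]; exact ha _ (hb u hu)
      one_mem' := fun u hu => by rwa [one_smul]
      inv_mem' := fun {a} ha u hu => by
        let φ : U → U := fun w => ⟨a • (w : V), ha w w.2⟩
        have hφ : Function.Injective φ := fun w w' h =>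
          Subtype.ext (MulAction.injective a (congrArg Subtype.val h))
        obtain ⟨w, hw⟩ := Finite.surjective_of_injective hφ ⟨u, hu⟩
        have hw' : a • (w : V) = u := congrArg Subtype.val hw
        rw [← hw', inv_smul_smul]
        exact w.2 }
  have hle : Subgroup.zpowers τ ≤ S := Subgroup.zpowers_le.2 hU
  letI : MulAction (Subgroup.zpowers τ) U :=
    { smul := fun g u => ⟨(g : X) • (u : V), hle g.2 u u.2⟩
      one_smul := fun u => Subtype.ext (one_smul X (u : V))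
      mul_smul := fun g h u => Subtype.ext (mul_smul (g : X) (h : X) (u : V)) }
  have hP : IsPGroup q (Subgroup.zpowers τ) := fun g => ⟨1, by
    obtain ⟨k, hk⟩ := Subgroup.mem_zpowers_iff.1 g.2
    refine Subtype.ext ?_
    rw [Subgroup.coe_pow, Subgroup.coe_one, pow_one, ← hk, ← zpow_natCast, ← zpow_mul, mul_comm,
      zpow_mul, zpow_natCast, hτ.pow, one_zpow]⟩
  have hfix : MulAction.fixedPoints (Subgroup.zpowers τ) U = {0} := by
    ext u
    constructor
    · intro hu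
      exact Subtype.ext (hτ.free u (congrArg Subtype.val (hu ⟨τ, Subgroup.mem_zpowers τ⟩)))
    · rintro rfl g
      exact Subtype.ext (smul_zero (g : X))
  have h := hP.card_modEq_card_fixedPoints U
  rw [hfix] at h
  simpa using h

theorem perp_invariant (hX : Preserves B X) {τ : X} {U : AddSubgroup V}
    (hU : ∀ g ∈ Subgroup.zpowers τ, ∀ u ∈ U, g • u ∈ U) {v : V} (hv : v ∈ B.perp (U : Set V)) :
    τ • v ∈ B.perp (U : Set V) := fun u hu => by
  have h := hX.pres τ v (τ⁻¹ • u)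
  rw [smul_inv_smul] at h
  rw [h]
  exact hv _ (hU _ (inv_mem (Subgroup.mem_zpowers τ)) u hu)

theorem exists_aniso (hX : Preserves B X) {τ : X} {q : ℕ} (hτ : FPF V τ q) (hodd : Odd q)
    {U : AddSubgroup V} (hU : ∀ g ∈ Subgroup.zpowers τ, ∀ u ∈ U, g • u ∈ U) (hnd : B.NondegOn U)
    (hne : U ≠ ⊥) : ∃ v, v ∈ aniso B τ U := by
  by_contra hc
  push Not at hc
  have hiso : ∀ v ∈ U, B.f v (τ • v) = 1 := fun v hv => by
    by_contra h
    exact hc v ⟨hv, h⟩
  have hself : ∀ u ∈ U, ∀ v ∈ U, B.f (τ • u) v = B.f (τ⁻¹ • u) v := fun u hu v hv => by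
    have h := hiso (u + v) (U.add_mem hu hv)
    rw [smul_add, B.add_left, B.add_right, B.add_right, hiso u hu, hiso v hv, one_mul, mul_one] at h
    have h2 := hX.pres τ (τ⁻¹ • u) v
    rw [smul_inv_smul] at h2
    rw [← h2]
    have h3 := B.swap_mul (τ • u) v
    exact mul_right_cancel₀ (B.ne_zero v (τ • u)) (h3.trans h.symm)
  apply hne
  rw [AddSubgroup.eq_bot_iff_forall]
  intro u hu
  have hmem : τ • u - τ⁻¹ • u ∈ U ⊓ B.perp (U : Set V) :=
    ⟨U.sub_mem (hU τ (Subgroup.mem_zpowers τ) u hu) (hU _ (inv_mem (Subgroup.mem_zpowers τ)) u hu),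
      fun v hv => by rw [B.sub_left, hself u hu v hv, mul_inv_cancel₀ (B.ne_zero _ _)]⟩
  rw [hnd, AddSubgroup.mem_bot, sub_eq_zero] at hmem
  have h2 : τ ^ 2 • u = u := by rw [pow_two, mul_smul, hmem, smul_inv_smul]
  obtain ⟨k, hk⟩ := hodd
  have h3 : ∀ n : ℕ, (τ ^ 2) ^ n • u = u := fun n => by
    induction n with
    | zero => rw [pow_zero, one_smul]
    | succ n ih => rw [pow_succ, mul_smul, h2, ih]
  refine hτ.free u ?_
  calc τ • u = τ • (τ ^ 2) ^ k • u := by rw [h3]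
    _ = u := by rw [← mul_smul, ← pow_mul, ← pow_succ', ← hk, hτ.pow, one_smul]

theorem smul_two (hV : ∀ v : V, 2 • v = 0) {τ : X} (hτ : FPF V τ 3) (v : V) :
    τ • τ • v = v + τ • v := by
  have h := sum_pow_smul_eq_zero hτ.pow hτ.free v
  simp only [Finset.sum_range_succ, Finset.sum_range_zero, zero_add, pow_zero, one_smul, pow_one,
    pow_two, mul_smul] at h
  rw [← neg_eq_self_two hV (τ • τ • v)]
  exact neg_eq_of_add_eq_zero_left h

theorem span2_invariant (hV : ∀ v : V, 2 • v = 0) {τ : X} (hτ : FPF V τ 3) (v : V) :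
    ∀ g ∈ Subgroup.zpowers τ, ∀ u ∈ span2 τ v, g • u ∈ span2 τ v := by
  have h1 : ∀ u ∈ span2 τ v, τ • u ∈ span2 τ v := by
    intro u hu
    obtain ⟨a, ha, b, hb, rfl⟩ := AddSubgroup.mem_sup.1 hu
    obtain ⟨i, rfl⟩ := AddSubgroup.mem_zmultiples_iff.1 ha
    obtain ⟨j, rfl⟩ := AddSubgroup.mem_zmultiples_iff.1 hb
    rw [smul_add, smul_comm τ i v, smul_comm τ j (τ • v), smul_two hV hτ]
    exact add_mem (zsmul_mem (AddSubgroup.mem_sup_right (AddSubgroup.mem_zmultiples _)) i)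
      (zsmul_mem (add_mem (AddSubgroup.mem_sup_left (AddSubgroup.mem_zmultiples _))
        (AddSubgroup.mem_sup_right (AddSubgroup.mem_zmultiples _))) j)
  have hn : ∀ n : ℕ, ∀ u ∈ span2 τ v, τ ^ n • u ∈ span2 τ v := fun n => by
    induction n with
    | zero => intro u hu; rwa [pow_zero, one_smul]
    | succ n ih => intro u hu; rw [pow_succ', mul_smul]; exact h1 _ (ih u hu)
  intro g hg u hu
  obtain ⟨n, rfl⟩ := (mem_powers_iff_mem_zpowers (x := τ)).2 hg
  exact hn n u hu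

theorem card_span2 (hV : ∀ v : V, 2 • v = 0) {τ : X} {q : ℕ} (hτ : FPF V τ q) {v : V} (hv : v ≠ 0) :
    Nat.card (span2 τ v) = 4 := by
  have hord : addOrderOf v = 2 := addOrderOf_eq_prime (hV v) hv
  have hnm : τ • v ∉ AddSubgroup.zmultiples v := by
    intro h
    obtain ⟨i, hi⟩ := AddSubgroup.mem_zmultiples_iff.1 h
    rw [← mod_addOrderOf_zsmul, hord] at hi
    rcases Int.emod_two_eq i with h' | h' <;> rw [Nat.cast_two, h'] at hi
    · exact hv ((smul_eq_zero_iff_eq τ).1 (hi.symm.trans (zero_zsmul v)))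
    · exact hv (hτ.free v (hi.symm.trans (one_zsmul v)))
  rw [span2, card_sup_zmultiples Nat.prime_two hV _ hnm, Nat.card_zmultiples, hord]

theorem self_mem_span2 (τ : X) (v : V) : v ∈ span2 τ v :=
  AddSubgroup.mem_sup_left (AddSubgroup.mem_zmultiples v)

theorem smul_mem_span2 (τ : X) (v : V) : τ • v ∈ span2 τ v :=
  AddSubgroup.mem_sup_right (AddSubgroup.mem_zmultiples _)

theorem span2_le {τ : X} {v : V} {U : AddSubgroup V} (hv : v ∈ U) (hv' : τ • v ∈ U) :
    span2 τ v ≤ U :=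
  sup_le (AddSubgroup.zmultiples_le.2 hv) (AddSubgroup.zmultiples_le.2 hv')

theorem nondegOn_span2 (hX : Preserves B X) (hV : ∀ v : V, 2 • v = 0) {τ : X} (hτ : FPF V τ 3)
    {v : V} (hv : B.f v (τ • v) ≠ 1) : B.NondegOn (span2 τ v) := by
  have hv0 : v ≠ 0 := fun h => hv (by rw [h, B.zero_left])
  set P := span2 τ v
  have hinv : ∀ u ∈ P ⊓ B.perp (P : Set V), τ • u ∈ P ⊓ B.perp (P : Set V) := fun u hu =>
    ⟨span2_invariant hV hτ v τ (Subgroup.mem_zpowers τ) u hu.1,
      perp_invariant hX (span2_invariant hV hτ v) hu.2⟩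
  have h1 := card_modEq_one hτ _ hinv
  have h2 : Nat.card (P ⊓ B.perp (P : Set V) : AddSubgroup V) ∣ 4 :=
    card_span2 hV hτ hv0 ▸ AddSubgroup.card_dvd_of_le inf_le_left
  have h3 := Nat.le_of_dvd (by norm_num) h2
  unfold Nat.ModEq at h1
  rw [Alt.NondegOn]
  refine AddSubgroup.eq_bot_of_card_eq _ ?_
  by_contra hne
  have h4 : Nat.card (P ⊓ B.perp (P : Set V) : AddSubgroup V) = 4 := by omega
  have he : (P ⊓ B.perp (P : Set V) : AddSubgroup V) = P :=
    AddSubgroup.eq_of_le_of_card_ge inf_le_left (by rw [h4, card_span2 hV hτ hv0])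
  have hle : P ≤ B.perp (P : Set V) := inf_eq_left.1 he
  exact hv (hle (self_mem_span2 τ v) _ (smul_mem_span2 τ v))

/-- In an invariant nondegenerate plane all nonzero vectors are anisotropic. -/
theorem aniso_of_plane (hV : ∀ v : V, 2 • v = 0) {τ : X} (hτ : FPF V τ 3)
    {P : AddSubgroup V} (hP : ∀ g ∈ Subgroup.zpowers τ, ∀ u ∈ P, g • u ∈ P) (hc : Nat.card P = 4)
    (hnd : B.NondegOn P) {w : V} (hw : w ∈ P) (hw0 : w ≠ 0) : B.f w (τ • w) ≠ 1 := by
  intro hf
  have he : span2 τ w = P := AddSubgroup.eq_of_le_of_card_ge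
    (span2_le hw (hP τ (Subgroup.mem_zpowers τ) w hw)) (by rw [hc, card_span2 hV hτ hw0])
  have hle : span2 τ w ≤ B.perp {w} := span2_le
    (fun t ht => by rw [Set.mem_singleton_iff.1 ht]; exact B.self w)
    (fun t ht => by rw [Set.mem_singleton_iff.1 ht]; exact B.swap_eq_one hf)
  have hmem : w ∈ P ⊓ B.perp (P : Set V) :=
    ⟨hw, fun t ht => B.swap_eq_one (hle (he.symm ▸ ht) w rfl)⟩
  rw [hnd, AddSubgroup.mem_bot] at hmem
  exact hw0 hmem

theorem f_sq (hV : ∀ v : V, 2 • v = 0) (u v : V) : B.f u v = 1 ∨ B.f u v = -1 := by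
  have h : B.f u v ^ 2 = 1 := by rw [← B.nsmul_left, hV, B.zero_left]
  exact sq_eq_one_iff.1 h

theorem n_add (hX : Preserves B X) {τ : X} {P : AddSubgroup V}
    (hP : ∀ g ∈ Subgroup.zpowers τ, ∀ u ∈ P, g • u ∈ P) {a b : V} (ha : a ∈ P)
    (hb : b ∈ B.perp (P : Set V)) :
    B.f (a + b) (τ • (a + b)) = B.f a (τ • a) * B.f b (τ • b) := by
  rw [smul_add, B.add_left, B.add_right, B.add_right]
  rw [B.swap_eq_one ((perp_invariant hX hP hb) a ha), hb _ (hP τ (Subgroup.mem_zpowers τ) a ha)]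
  ring

/-- The normalizer of `⟨τ⟩` preserves anisotropy. -/
theorem aniso_smul (hX : Preserves B X) (hV : ∀ v : V, 2 • v = 0) {τ : X} (hτ : FPF V τ 3) {x : X}
    (hx : x⁻¹ * τ * x ∈ Subgroup.zpowers τ) (v : V) :
    B.f (x • v) (τ • x • v) = B.f v (τ • v) := by
  obtain ⟨n, hn⟩ := (mem_powers_iff_mem_zpowers (x := τ)).2 hx
  have h1 : τ • x • v = x • (τ ^ n • v) := by
    rw [show τ ^ n = x⁻¹ * τ * x from hn, ← mul_smul, ← mul_smul]
    congr 1; group
  rw [h1, hX.pres, pow_eq_pow_mod n hτ.pow]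
  have hlt : n % 3 < 3 := Nat.mod_lt _ (by norm_num)
  interval_cases h : n % 3
  · have h2 : x⁻¹ * τ * x = 1 := by
      rw [← show τ ^ n = x⁻¹ * τ * x from hn, pow_eq_pow_mod n hτ.pow, h, pow_zero]
    have h3 : τ = x * (x⁻¹ * τ * x) * x⁻¹ := by group
    rw [h2, mul_one, mul_inv_cancel] at h3
    rw [h3, one_pow]
  · rw [pow_one]
  · rw [pow_two, mul_smul, smul_two hV hτ, B.add_right, B.self, one_mul]

end Cfsg.Agent.H30.ClassFit
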