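import Cfsg.Agent.H30.ClassFit.Planes

/-!
Fixed points of abelian normal subgroups of isometry groups over the field with two elements.
-/

namespace Cfsg.Agent.H30.ClassFit

open scoped Pointwise

variable {X V : Type*} [Group X] [Finite X] [AddCommGroup V] [Finite V] [DistribMulAction X V]
  {B : Alt V}

variable (V) in
/-- The common fixed points of a subgroup. -/
def fixpts (H : Subgroup X) : AddSubgroup V where
  carrier := {v | ∀ h ∈ H, h • v = v}
  add_mem' := fun {a b} ha hb h hh => by rw [smul_add, ha h hh, hb h hh]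
  zero_mem' := fun h _ => smul_zero h
  neg_mem' := fun {a} ha h hh => by rw [smul_neg, ha h hh]

theorem smul_fixpts_le (H : Subgroup X) (x : X) (hx : ∀ h ∈ H, x⁻¹ * h * x ∈ H) {v : V}
    (hv : v ∈ fixpts V H) : x • v ∈ fixpts V H := fun h hh => by
  have := hv _ (hx h hh)
  rwa [mul_smul, mul_smul, inv_smul_eq_iff] at this

/-- The irreducibility hypothesis. -/
def IsIrred (X V : Type*) [Group X] [AddCommGroup V] [DistribMulAction X V] : Prop :=
  Nontrivial V ∧ ∀ U : AddSubgroup V, (∀ g : X, ∀ u ∈ U, g • u ∈ U) → U = ⊥ ∨ U = ⊤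

theorem fixpts_normal_eq_bot (hX : Preserves B X) (hirr : IsIrred X V) {A : Subgroup X} [hA : A.Normal]
    (hA1 : A ≠ ⊥) : fixpts V A = ⊥ := by
  rcases hirr.2 (fixpts V A) (fun g u hu => smul_fixpts_le A g
    (fun h hh => by simpa using hA.conj_mem h hh g⁻¹) hu) with h | h
  · exact h
  · refine absurd ?_ hA1
    rw [Subgroup.eq_bot_iff_forall]
    exact fun a ha => hX.faithful a fun v => (h ▸ AddSubgroup.mem_top v : v ∈ fixpts V A) a ha

theorem sum_pow_smul_eq_zero {g : X} {q : ℕ} (hg : g ^ q = 1) (hf : ∀ v : V, g • v = v → v = 0)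
    (w : V) : ∑ j ∈ Finset.range q, g ^ j • w = 0 := by
  apply hf
  have h1 := Finset.sum_range_succ' (fun j => g ^ j • w) q
  have h2 := Finset.sum_range_succ (fun j => g ^ j • w) q
  rw [h2, hg, pow_zero, one_smul] at h1
  rw [Finset.smul_sum]
  simp only [← mul_smul, ← pow_succ']
  exact (add_right_cancel h1).symm

theorem neg_eq_self_two (hV : ∀ v : V, 2 • v = 0) (v : V) : -v = v := by
  have h := hV v
  rw [two_nsmul] at h
  exact neg_eq_of_add_eq_zero_left h

theorem odd_nsmul (hV : ∀ v : V, 2 • v = 0) {q : ℕ} (hq : Odd q) (v : V) : q • v = v := by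
  obtain ⟨k, rfl⟩ := hq
  rw [add_nsmul, mul_nsmul, hV, nsmul_zero, zero_add, one_nsmul] <;> rfl

/-- A noncyclic abelian group of exponent `q` does not act fixed-point-freely. -/
theorem exists_fixed_of_noncyclic [Nontrivial V] (hV : ∀ v : V, 2 • v = 0) {A : Subgroup X} {q : ℕ}
    (hq : q.Prime) (hodd : Odd q) (hAc : ∀ a ∈ A, ∀ b ∈ A, a * b = b * a)
    (hAq : ∀ a ∈ A, a ^ q = 1) {a b : X} (ha : a ∈ A) (hb : b ∈ A) (ha1 : a ≠ 1)
    (hab : b ∉ Subgroup.zpowers a) :
    ∃ g ∈ A, g ≠ 1 ∧ ∃ w : V, w ≠ 0 ∧ g • w = w := by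
  by_contra hc
  push Not at hc
  obtain ⟨v, hv⟩ := exists_ne (0 : V)
  have hf : ∀ g ∈ A, g ≠ 1 → ∀ w : V, g • w = w → w = 0 := fun g hg h1 w hw => by
    by_contra h0
    exact hc g hg h1 w h0 hw
  have hcomm : Commute a b := hAc a ha b hb
  have hne : ∀ i : ℕ, a ^ i * b ≠ 1 := fun i h => hab (by
    rw [show b = (a ^ i)⁻¹ from eq_inv_of_mul_eq_one_right h]
    exact inv_mem (pow_mem (Subgroup.mem_zpowers a) i))
  have hzero : ∑ i ∈ Finset.range q, ∑ j ∈ Finset.range q, (a ^ i * b) ^ j • v = 0 :=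
    Finset.sum_eq_zero fun i _ => sum_pow_smul_eq_zero
      (hAq _ (mul_mem (pow_mem ha i) hb)) (hf _ (mul_mem (pow_mem ha i) hb) (hne i)) v
  rw [Finset.sum_comm] at hzero
  have hinner : ∀ j ∈ Finset.range q, j ≠ 0 → ∑ i ∈ Finset.range q, (a ^ i * b) ^ j • v = 0 := by
    intro j hj hj0
    have h1 : ∀ i, (a ^ i * b) ^ j • v = (a ^ j) ^ i • (b ^ j • v) := fun i => by
      rw [(hcomm.pow_left i).mul_pow, mul_smul, ← pow_mul, ← pow_mul, mul_comm]
    simp only [h1]
    refine sum_pow_smul_eq_zero (hAq _ (pow_mem ha j)) (hf _ (pow_mem ha j) fun h => ?_) _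
    have hd := orderOf_dvd_of_pow_eq_one h
    haveI := Fact.mk hq
    rw [orderOf_eq_prime (hAq a ha) ha1] at hd
    exact absurd (Nat.le_of_dvd (Nat.pos_of_ne_zero hj0) hd) (not_le.2 (Finset.mem_range.1 hj))
  rw [Finset.sum_eq_single 0 hinner (fun h => absurd (Finset.mem_range.2 hq.pos) h)] at hzero
  simp only [pow_zero, one_smul, Finset.sum_const, Finset.card_range, odd_nsmul hV hodd] at hzero
  exact hv hzero

/-- A noncyclic normal elementary abelian subgroup yields a system of nondegenerate planes. -/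
theorem exists_planes (hX : Preserves B X) (hirr : IsIrred X V) (hV : ∀ v : V, 2 • v = 0) {d : ℕ}
    (hd : Nat.card V = 2 ^ d) (hd6 : d = 4 ∨ d = 6) {A : Subgroup X} [hA : A.Normal] {q : ℕ}
    (hq : q.Prime) (hodd : Odd q) (hA1 : A ≠ ⊥) (hAc : ∀ a ∈ A, ∀ b ∈ A, a * b = b * a)
    (hAq : ∀ a ∈ A, a ^ q = 1) (hnc : ∀ a ∈ A, ¬ A ≤ Subgroup.zpowers a) :
    ∃ Ws : Finset (AddSubgroup V), Ws.card ≤ d / 2 ∧ (∀ W ∈ Ws, Nat.card W = 4) ∧
      (∀ W ∈ Ws, B.NondegOn W) ∧ (∀ x : X, ∀ W ∈ Ws, x • W ∈ Ws) ∧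
      ⨆ W ∈ Ws, W = (⊤ : AddSubgroup V) := by
  classical
  haveI := hirr.1
  obtain ⟨a, ha, ha1⟩ : ∃ a ∈ A, a ≠ 1 := by
    by_contra hc
    push Not at hc
    exact hA1 ((Subgroup.eq_bot_iff_forall A).2 hc)
  obtain ⟨b, hb, hab⟩ : ∃ b ∈ A, b ∉ Subgroup.zpowers a := by
    by_contra hc
    push Not at hc
    exact hnc a ha hc
  obtain ⟨g, hg, hg1, w, hw, hgw⟩ := exists_fixed_of_noncyclic hV hq hodd hAc hAq ha hb ha1 hab
  let Fam : Set (Subgroup X) := {H | H ≤ A ∧ fixpts V H ≠ ⊥}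
  have hgFam : Subgroup.zpowers g ∈ Fam := ⟨Subgroup.zpowers_le.2 hg, fun h => hw (by
    rw [← AddSubgroup.mem_bot, ← h]
    intro k hk
    exact (Subgroup.zpowers_le.2 (MulAction.mem_stabilizer_iff.2 hgw) hk : k ∈ MulAction.stabilizer X w))⟩
  obtain ⟨H, hgH, ⟨⟨hHA, hWne⟩, hmax⟩⟩ := (Set.toFinite Fam).exists_le_maximal hgFam
  set W := fixpts V H with hWdef
  have hWtop : W ≠ ⊤ := fun h => hg1 (hX.faithful g fun v =>
    (h ▸ AddSubgroup.mem_top v : v ∈ W) g (hgH (Subgroup.mem_zpowers g)))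
  have hfree : ∀ a ∈ A, a ∉ H → ∀ v ∈ W, a • v = v → v = 0 := by
    intro a ha haH v hv hav
    by_contra hv0
    refine haH (hmax (y := H ⊔ Subgroup.zpowers a) ⟨sup_le hHA (Subgroup.zpowers_le.2 ha), fun h => hv0 ?_⟩
      le_sup_left (Subgroup.mem_sup_right (Subgroup.mem_zpowers a)))
    rw [← AddSubgroup.mem_bot, ← h]
    intro k hk
    have hle : H ⊔ Subgroup.zpowers a ≤ MulAction.stabilizer X v :=
      sup_le (fun h hh => hv h hh) (Subgroup.zpowers_le.2 hav)
    exact hle hk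
  have hAinv : ∀ a ∈ A, ∀ v ∈ W, a • v ∈ W := fun a ha v hv => smul_fixpts_le H a
    (fun h hh => by rw [mul_assoc, hAc h (hHA hh) a ha, inv_mul_cancel_left]; exact hh) hv
  have horth : ∀ x : X, x • W ≠ W → ∀ u ∈ x • W, ∀ v ∈ W, B.f v u = 1 := by
    intro x hx u hu v hv
    obtain ⟨u0, hu0, rfl⟩ : ∃ u0 ∈ W, x • u0 = u := hu
    by_cases hsub : ∀ h ∈ H, x * h * x⁻¹ ∈ H
    · exfalso
      apply hx
      have hsub' : ∀ h ∈ H, x⁻¹ * h * x ∈ H := by
        intro h hh
        let f : H → H := fun k => ⟨x * k * x⁻¹, hsub k k.2⟩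
        have hf : Function.Injective f := fun k l hkl => by
          have h' := congrArg Subtype.val hkl
          exact Subtype.ext (mul_left_cancel (mul_right_cancel h'))
        obtain ⟨k, hk⟩ := Finite.surjective_of_injective hf ⟨h, hh⟩
        have hk' : x * (k : X) * x⁻¹ = h := congrArg Subtype.val hk
        rw [← hk']
        simp [mul_assoc]
      refine AddSubgroup.eq_of_le_of_card_ge ?_ (le_of_eq ?_)
      · rintro _ ⟨z, hz, rfl⟩
        exact smul_fixpts_le H x hsub' hz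
      · exact Nat.card_congr (W.equivMapOfInjective _ (MulAction.injective x)).toEquiv
    push Not at hsub
    obtain ⟨h, hh, hha⟩ := hsub
    set c := x * h * x⁻¹ with hcdef
    have hc : c ∈ A := hA.conj_mem h (hHA hh) x
    have hcu : c • x • u0 = x • u0 := by
      rw [← mul_smul, hcdef, inv_mul_cancel_right, mul_smul, hu0 h hh]
    let φ : W → W := fun z => ⟨c • (z : V) - z, W.sub_mem (hAinv c hc z z.2) z.2⟩
    have hφ : Function.Injective φ := fun z z' hzz => by
      have h' := congrArg Subtype.val hzz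
      change c • (z : V) - z = c • (z' : V) - z' at h'
      refine Subtype.ext (sub_eq_zero.1 (hfree c hc hha _ (W.sub_mem z.2 z'.2) ?_))
      rw [smul_sub]
      rw [sub_eq_sub_iff_sub_eq_sub] at h'
      exact h'
    obtain ⟨z, hz⟩ := Finite.surjective_of_injective hφ ⟨v, hv⟩
    have hz' : c • (z : V) - z = v := congrArg Subtype.val hz
    rw [← hz', B.sub_left]
    have h' := hX.pres c (z : V) (x • u0)
    rw [hcu] at h'
    rw [h', mul_inv_cancel₀ (B.ne_zero _ _)]
  let Ws : Finset (AddSubgroup V) := (Set.toFinite (Set.range fun x : X => x • W)).toFinset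
  have hmem : ∀ U, U ∈ Ws ↔ ∃ x : X, x • W = U := fun U => by simp [Ws]
  have hW : W ∈ Ws := (hmem W).2 ⟨1, one_smul X W⟩
  have hperm : ∀ x : X, ∀ U ∈ Ws, x • U ∈ Ws := fun x U hU => by
    obtain ⟨y, rfl⟩ := (hmem U).1 hU
    exact (hmem _).2 ⟨x * y, mul_smul x y W⟩
  have hinvtop : ⨆ U ∈ Ws, U = (⊤ : AddSubgroup V) := by
    rcases hirr.2 (⨆ U ∈ Ws, U) (fun x u hu => by
      have h1 : (⨆ U ∈ Ws, U) ≤ (⨆ U ∈ Ws, U).comap (DistribMulAction.toAddMonoidHom V x) :=
        iSup₂_le fun U hU z hz => le_iSup₂ (f := fun U (_ : U ∈ Ws) => U) (x • U) (hperm x U hU)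
          (AddSubgroup.smul_mem_pointwise_smul z x U hz)
      exact h1 hu) with h | h
    · exact absurd (eq_bot_iff.2 (h ▸ le_iSup₂ (f := fun U (_ : U ∈ Ws) => U) W hW)) hWne
    · exact h
  have hpperp : ∀ U ∈ Ws, U ≠ W → U ≤ B.perp (W : Set V) := fun U hU hne => by
    obtain ⟨x, rfl⟩ := (hmem U).1 hU
    exact fun u hu v hv => B.swap_eq_one (horth x hne u hu v hv)
  have hndW : B.NondegOn W := by
    rw [Alt.NondegOn, eq_bot_iff]
    rintro v ⟨hv, hvp⟩
    refine AddSubgroup.mem_bot.2 (hX.nondeg v fun z => ?_)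
    have hle : (⨆ U ∈ Ws, U) ≤ B.perp {v} := iSup₂_le fun U hU u hu t ht => by
      rw [Set.mem_singleton_iff.1 ht]
      by_cases hne : U = W
      · exact B.swap_eq_one (hvp u (hne ▸ hu))
      · exact hpperp U hU hne hu v hv
    exact B.swap_eq_one (hle (hinvtop ▸ AddSubgroup.mem_top z) v rfl)
  have hnd : ∀ U ∈ Ws, B.NondegOn U := fun U hU => by
    obtain ⟨x, rfl⟩ := (hmem U).1 hU
    rw [Alt.NondegOn, eq_bot_iff]
    rintro _ ⟨⟨v, hv, rfl⟩, hvp⟩
    have h1 : v ∈ W ⊓ B.perp (W : Set V) := ⟨hv, fun t ht => by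
      rw [← hX.pres x]
      exact hvp _ (AddSubgroup.smul_mem_pointwise_smul t x W ht)⟩
    rw [hndW, AddSubgroup.mem_bot] at h1
    rw [h1]
    exact AddSubgroup.mem_bot.2 (smul_zero x)
  have hcardU : ∀ U ∈ Ws, Nat.card U = Nat.card W := fun U hU => by
    obtain ⟨x, rfl⟩ := (hmem U).1 hU
    exact (Nat.card_congr (W.equivMapOfInjective _ (MulAction.injective x)).toEquiv).symm
  obtain ⟨U1, hU1, hU1W⟩ : ∃ U ∈ Ws, U ≠ W := by
    by_contra hc
    push Not at hc
    refine hWtop (top_le_iff.1 (hinvtop ▸ iSup₂_le fun U hU => (hc U hU).le))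
  have hmul := Alt.card_mul_card_perp hX.nondeg W
  have hW4 : Nat.card W = 4 := by
    obtain ⟨k, hk⟩ := Alt.exists_card_eq_sq Nat.prime_two (fun w : W => Subtype.ext (hV w))
      (B.restrict_nondeg hndW)
    have h2 : Nat.card W ≤ Nat.card (B.perp (W : Set V)) := by
      rw [← hcardU U1 hU1]; exact AddSubgroup.card_le_of_le (hpperp U1 hU1 hU1W)
    rw [hd] at hmul
    have h3 : 2 ^ (2 * (2 * k)) ≤ 2 ^ d := by
      rw [show 2 ^ (2 * (2 * k)) = Nat.card W * Nat.card W by rw [hk]; ring]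
      exact (Nat.mul_le_mul_left _ h2).trans hmul.le
    have h4 := (Nat.pow_le_pow_iff_right (by norm_num)).1 h3
    have h5 : k = 1 := by
      rcases Nat.eq_zero_or_pos k with hk0 | hk0
      · exfalso
        subst hk0
        exact hWne (AddSubgroup.eq_bot_of_card_eq W (by rw [hk]; rfl))
      · rcases hd6 with rfl | rfl <;> omega
    rw [hk, h5]; rfl
  refine ⟨Ws, ?_, fun U hU => (hcardU U hU).trans hW4, hnd, hperm, hinvtop⟩
  have hperpcard : Nat.card (B.perp (W : Set V)) = 2 ^ (d - 2) := by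
    rw [hd, hW4] at hmul
    rcases hd6 with rfl | rfl <;> omega
  rcases hd6 with rfl | rfl
  · have : Ws ⊆ {W, B.perp (W : Set V)} := fun U hU => by
      by_cases h : U = W
      · simp [h]
      · have he : U = B.perp (W : Set V) := AddSubgroup.eq_of_le_of_card_ge (hpperp U hU h)
          (by rw [hperpcard, hcardU U hU, hW4]; norm_num)
        simp [he]
    exact (Finset.card_le_card this).trans Finset.card_le_two
  · have hperpU : ∀ U ∈ Ws, ∀ U' ∈ Ws, U' ≠ U → U' ≤ B.perp (U : Set V) := by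
      intro U hU U' hU' hne u hu t ht
      obtain ⟨x, rfl⟩ := (hmem U).1 hU
      obtain ⟨t0, ht0, rfl⟩ : ∃ t0 ∈ W, x • t0 = t := ht
      have hne' : x⁻¹ • U' ≠ W := fun h => hne (by rw [← h, smul_inv_smul])
      have h1 := hpperp _ (hperm x⁻¹ U' hU') hne' (AddSubgroup.smul_mem_pointwise_smul u x⁻¹ U' hu) t0 ht0
      rw [← hX.pres x] at h1
      rwa [smul_inv_smul] at h1
    let U2 := B.perp ((W ⊔ U1 : AddSubgroup V) : Set V)
    have hU2card : Nat.card U2 = 4 := by
      have h := Alt.card_mul_card_perp hX.nondeg (W ⊔ U1)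
      have hsum : Nat.card (W ⊔ U1 : AddSubgroup V) = 16 := by
        let f : W × U1 →+ V := W.subtype.coprod U1.subtype
        have hr : f.range = W ⊔ U1 := by
          ext z
          rw [AddSubgroup.mem_sup]
          constructor
          · rintro ⟨⟨s, t⟩, rfl⟩; exact ⟨s, s.2, t, t.2, rfl⟩
          · rintro ⟨s, hs, t, ht, rfl⟩; exact ⟨(⟨s, hs⟩, ⟨t, ht⟩), rfl⟩
        have hinj : Function.Injective f := (injective_iff_map_eq_zero f).2 fun ⟨s, t⟩ hst => by
          have h' : (s : V) + t = 0 := hst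
          have ht : (t : V) ∈ W ⊓ B.perp (W : Set V) := ⟨by
            rw [show (t : V) = -(s : V) from eq_neg_of_add_eq_zero_right h']
            exact W.neg_mem s.2, hpperp U1 hU1 hU1W t.2⟩
          rw [hndW, AddSubgroup.mem_bot] at ht
          rw [ht, add_zero] at h'
          exact Prod.ext (Subtype.ext h') (Subtype.ext ht)
        rw [← hr, ← Nat.card_congr (AddMonoidHom.ofInjective hinj).toEquiv, Nat.card_prod, hW4,
          hcardU U1 hU1, hW4]
      rw [hsum, hd] at h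
      change 16 * Nat.card U2 = 2 ^ 6 at h
      norm_num at h
      omega
    have : Ws ⊆ {W, U1, U2} := fun U hU => by
      by_cases h : U = W
      · simp [h]
      by_cases h' : U = U1
      · simp [h']
      have hle : U ≤ U2 := fun u hu t ht => by
        obtain ⟨s, hs, r, hr, rfl⟩ := AddSubgroup.mem_sup.1 ht
        rw [B.add_right, hpperp U hU h hu s hs, hperpU U1 hU1 U hU h' hu r hr, one_mul]
      have he : U = U2 := AddSubgroup.eq_of_le_of_card_ge hle (by rw [hU2card, hcardU U hU, hW4])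
      simp [he]
    exact (Finset.card_le_card this).trans Finset.card_le_three

end Cfsg.Agent.H30.ClassFit
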