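import Cfsg.Agent.H30.ClassFit.AltBounds

/-!
Isometry groups permuting a family of nondegenerate planes over the field with two elements.
-/

namespace Cfsg.Agent.H30.ClassFit

open scoped Pointwise

variable {X V : Type*} [Group X] [Finite X] [AddCommGroup V] [Finite V] [DistribMulAction X V]
  {B : Alt V}

/-- The action on an invariant subgroup. -/
def subAction (H : Subgroup X) (W : AddSubgroup V) (h : ∀ g ∈ H, ∀ w ∈ W, g • w ∈ W) :
    H →* (AddMonoid.End W)ˣ :=
  MonoidHom.toHomUnits
    { toFun := fun g =>
        { toFun := fun w => ⟨(g : X) • (w : V), h g g.2 w w.2⟩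
          map_zero' := Subtype.ext (smul_zero (g : X))
          map_add' := fun a b => Subtype.ext (smul_add (g : X) (a : V) (b : V)) }
      map_one' := AddMonoidHom.ext fun w => Subtype.ext (one_smul X (w : V))
      map_mul' := fun a b => AddMonoidHom.ext fun w => Subtype.ext (mul_smul (a : X) (b : X) (w : V)) }

theorem subAction_apply (H : Subgroup X) (W : AddSubgroup V) (h : ∀ g ∈ H, ∀ w ∈ W, g • w ∈ W)
    (g : H) (w : W) : ((subAction H W h g • w : W) : V) = (g : X) • (w : V) := rfl

theorem preserves_range {H : Subgroup X} {W : AddSubgroup V} (hX : Preserves B X)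
    (hW : B.NondegOn W) (h : ∀ g ∈ H, ∀ w ∈ W, g • w ∈ W) :
    Preserves (B.restrict W) (subAction H W h).range where
  nondeg := B.restrict_nondeg hW
  pres := by
    rintro ⟨_, g, rfl⟩ u v
    exact hX.pres (g : X) u v
  faithful := fun g hg => Subtype.ext (Units.ext (AddMonoidHom.ext fun w => hg w))

/-- A group of isometries permuting planes that span. -/
theorem kbound_of_planes (hX : Preserves B X) (hV : ∀ v : V, 2 • v = 0)
    (Ws : Finset (AddSubgroup V)) (hcard : ∀ W ∈ Ws, Nat.card W = 4)
    (hnd : ∀ W ∈ Ws, B.NondegOn W) (hperm : ∀ x : X, ∀ W ∈ Ws, x • W ∈ Ws)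
    (hsup : ⨆ W ∈ Ws, W = (⊤ : AddSubgroup V)) :
    KBound X (3 ^ Ws.card * Nat.factorial Ws.card) := by
  classical
  letI : MulAction X {W // W ∈ Ws} :=
    { smul := fun x W => ⟨x • W.1, hperm x W.1 W.2⟩
      one_smul := fun W => Subtype.ext (one_smul X W.1)
      mul_smul := fun x y W => Subtype.ext (mul_smul x y W.1) }
  let π := MulAction.toPermHom X {W // W ∈ Ws}
  refine KBound.of_ker π ?_ (KBound.of_card (le_of_eq ?_))
  · have hinv : ∀ W : {W // W ∈ Ws}, ∀ g ∈ π.ker, ∀ w ∈ W.1, g • w ∈ W.1 := by
      intro W g hg w hw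
      have h1 : g • W.1 = W.1 :=
        congrArg Subtype.val (Equiv.ext_iff.1 (MonoidHom.mem_ker.1 hg) W)
      rw [← h1]
      exact AddSubgroup.smul_mem_pointwise_smul w g W.1 hw
    have hk : ∀ W : {W // W ∈ Ws}, KBound (subAction π.ker W.1 (hinv W)).range 3 := by
      intro W
      have h := (preserves_range hX (hnd W.1 W.2) (hinv W)).kbound_centralizer Nat.prime_two
        (fun w => Subtype.ext (hV w)) (d := 2) (by rw [hcard W.1 W.2]; rfl) le_rfl
      simpa using h
    have h := (KBound.pi hk).of_injective
      (MonoidHom.pi fun W => (subAction π.ker W.1 (hinv W)).rangeRestrict) ?_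
    · rw [Finset.prod_const, Finset.card_univ, Fintype.card_coe] at h
      exact h
    · rw [injective_iff_map_eq_one]
      intro g hg
      refine Subtype.ext (hX.faithful _ fun v => ?_)
      let E : AddSubgroup V :=
        { carrier := {v | (g : X) • v = v}
          add_mem' := fun {a b} (ha : (g : X) • a = a) (hb : (g : X) • b = b) => by
            change (g : X) • (a + b) = a + b; rw [smul_add, ha, hb]
          zero_mem' := smul_zero (g : X)
          neg_mem' := fun {a} (ha : (g : X) • a = a) => by
            change (g : X) • (-a) = -a; rw [smul_neg, ha] }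
      have hle : (⨆ W ∈ Ws, W) ≤ E := iSup₂_le fun W hW w hw => by
        change (g : X) • w = w
        have h1 := congrFun hg ⟨W, hW⟩
        have h2 : subAction π.ker W (hinv ⟨W, hW⟩) g = 1 := congrArg Subtype.val h1
        have h3 := subAction_apply π.ker W (hinv ⟨W, hW⟩) g ⟨w, hw⟩
        rw [h2, one_smul] at h3
        exact h3.symm
      rw [hsup] at hle
      exact hle (AddSubgroup.mem_top v)
  · rw [Nat.card_perm, Nat.card_eq_fintype_card, Fintype.card_coe]

end Cfsg.Agent.H30.ClassFit
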