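import Cfsg.Agent.H30.ClassFit.Symplectic
import Cfsg.Agent.H10.BaseThree.Primitive

/-!
Finite solvable complex linear groups all of whose abelian normal subgroups are scalar.
-/

namespace Cfsg.Agent.H30.ClassFit

open scoped commutatorElement

universe u v

variable {G : Type u} [Group G] [Finite G] [Group.IsSolvable G]
variable {V : Type v} [AddCommGroup V] [Module ℂ V] [FiniteDimensional ℂ V] [Nontrivial V]

theorem smul_one_inj {a b : ℂ} (h : a • (1 : Module.End ℂ V) = b • 1) : a = b := by
  obtain ⟨w, hw⟩ := exists_ne (0 : V)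
  have h' := LinearMap.congr_fun h w
  simp only [LinearMap.smul_apply, Module.End.one_apply] at h'
  exact (smul_left_injective ℂ hw) h'

theorem kbound_primitive (ρ : G →* Module.End ℂ V) (hρ : Function.Injective ρ)
    (hprim : ∀ A : Subgroup G, A.Normal → (∀ a ∈ A, ∀ b ∈ A, a * b = b * a) →
      ∀ a ∈ A, ∃ c : ℂ, ρ a = c • 1) :
    KBound (G ⧸ Cfsg.fittingSubgroup G) (3 ^ (Module.finrank ℂ V - 1)) := by
  classical
  let T : Subgroup G :=
    { carrier := {g | ∃ c : ℂ, ρ g = c • 1}
      one_mem' := ⟨1, by rw [map_one, one_smul]⟩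
      mul_mem' := fun {a b} ha hb => by
        obtain ⟨c, hc⟩ := ha
        obtain ⟨d, hd⟩ := hb
        exact ⟨c * d, by rw [map_mul, hc, hd, smul_mul_smul_comm, one_mul]⟩
      inv_mem' := fun {a} ha => by
        obtain ⟨c, hc⟩ := ha
        have h1 : ρ a⁻¹ * ρ a = 1 := by rw [← map_mul, inv_mul_cancel, map_one]
        rw [hc, mul_smul_comm, mul_one] at h1
        have hc0 : c ≠ 0 := fun h => by
          rw [h, zero_smul] at h1
          exact zero_ne_one h1
        exact ⟨c⁻¹, by rw [← h1, smul_smul, inv_mul_cancel₀ hc0, one_smul]⟩ }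
  have hTcentral : ∀ t ∈ T, ∀ g : G, t * g = g * t := fun t ht g => hρ (by
    obtain ⟨c, hc⟩ := ht
    rw [map_mul, map_mul, hc, smul_mul_assoc, one_mul, mul_smul_comm, mul_one])
  haveI hTn : T.Normal := ⟨fun t ht g => by rwa [← hTcentral t ht g, mul_inv_cancel_right]⟩
  obtain ⟨B, hBn, hTB, -, hBcomm, -, -, hCB⟩ := H10.BaseThree.exists_layer (T := T)
    (fun a ha b _ => hTcentral a ha b) (fun A hA _ hAc a ha => hprim A hA hAc a ha)
  haveI := hBn
  choose sc hsc using fun t : T => (t.2 : ∃ c : ℂ, ρ (t : G) = c • 1)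
  have hscmul : ∀ s t : T, sc (s * t) = sc s * sc t := fun s t => smul_one_inj (V := V) (by
    rw [← hsc, Subgroup.coe_mul, map_mul, hsc, hsc, smul_mul_smul_comm, one_mul])
  have hscone : sc 1 = 1 := smul_one_inj (V := V) (by
    rw [← hsc, Subgroup.coe_one, map_one, one_smul])
  have hscinj : ∀ t : T, sc t = 1 → (t : G) = 1 := fun t ht => hρ (by
    rw [hsc, ht, one_smul, map_one])
  -- the quotient `B / T`
  let N : Subgroup B := T.subgroupOf B
  letI : CommGroup (B ⧸ N) :=
    { (inferInstance : Group (B ⧸ N)) with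
      mul_comm := fun x y => by
        induction x using QuotientGroup.induction_on with
        | _ a =>
          induction y using QuotientGroup.induction_on with
          | _ b =>
            refine commutatorElement_eq_one_iff_mul_comm.1
              ((map_commutatorElement (QuotientGroup.mk' N) a b).symm.trans
                ((QuotientGroup.eq_one_iff _).2 ?_))
            exact hBcomm a a.2 b b.2 }
  let W := Additive (B ⧸ N)
  -- the action by conjugation
  let conj : G →* AddMonoid.End W :=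
    { toFun := fun g => MonoidHom.toAdditive (QuotientGroup.map N N
        ((MulAut.conjNormal g : B ≃* B) : B →* B) (fun x hx => by
          rw [Subgroup.mem_comap, Subgroup.mem_subgroupOf]
          exact hTn.conj_mem _ hx g))
      map_one' := AddMonoidHom.ext fun w => by
        obtain ⟨b, hb⟩ := QuotientGroup.mk'_surjective N w.toMul
        rw [show w = Additive.ofMul (QuotientGroup.mk' N b) from Additive.toMul.injective hb.symm]
        refine congrArg (fun x : B => Additive.ofMul (QuotientGroup.mk' N x)) (Subtype.ext ?_)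
        change (1 : G) * (b : G) * (1 : G)⁻¹ = b
        group
      map_mul' := fun g h => AddMonoidHom.ext fun w => by
        obtain ⟨b, hb⟩ := QuotientGroup.mk'_surjective N w.toMul
        rw [show w = Additive.ofMul (QuotientGroup.mk' N b) from Additive.toMul.injective hb.symm]
        refine congrArg (fun x : B => Additive.ofMul (QuotientGroup.mk' N x)) (Subtype.ext ?_)
        change g * h * (b : G) * (g * h)⁻¹ = g * (h * (b : G) * h⁻¹) * g⁻¹
        group }
  let ψ := conj.toHomUnits
  haveI : Finite W := inferInstance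
  haveI : Finite (AddMonoid.End W)ˣ :=
    Finite.of_injective (fun f => ((f : AddMonoid.End W) : W → W))
      fun f g h => Units.ext (DFunLike.coe_injective h)
  haveI : Group.IsSolvable ψ.range := Group.isSolvable_of_surjective ψ.rangeRestrict_surjective
  let π : B → W := fun b => Additive.ofMul (QuotientGroup.mk' N b)
  have hπ : Function.Surjective π := fun w => by
    obtain ⟨b, hb⟩ := QuotientGroup.mk'_surjective N w.toMul
    exact ⟨b, Additive.toMul.injective hb⟩
  have hπadd : ∀ a b : B, π (a * b) = π a + π b := fun a b => by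
    simp only [π, map_mul, ofMul_mul]
  have hπeq : ∀ a b : B, π a = π b → ((a⁻¹ * b : B) : G) ∈ T := fun a b h => by
    have h' : QuotientGroup.mk' N a = QuotientGroup.mk' N b := Additive.ofMul.injective h
    exact Subgroup.mem_subgroupOf.1 ((QuotientGroup.eq (s := N)).1 h')
  have hπact : ∀ (g : G) (b : B), conj g (π b) = π (MulAut.conjNormal g b) := fun g b => rfl
  -- the kernel is nilpotent
  have hker : ψ.ker ≤ Cfsg.fittingSubgroup G := by
    refine Cores.le_fittingSubgroup ?_
    have hmem : ∀ (g : ψ.ker) (b : B), ⁅(g : G), (b : G)⁆ ∈ T := fun g b => by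
      have h1 : conj g (π b) = π b :=
        DFunLike.congr_fun (congrArg Units.val (MonoidHom.mem_ker.1 g.2)) (π b)
      rw [hπact] at h1
      have h2 := hπeq _ _ h1.symm
      have h3 : (⁅(g : G), (b : G)⁆ : G) =
          (b : G) * ((b : G)⁻¹ * ((g : G) * b * (g : G)⁻¹)) * (b : G)⁻¹ := by
        rw [commutatorElement_def]; group
      rw [h3]
      exact hTn.conj_mem _ h2 _
    letI : CommGroup T := { (inferInstance : Group T) with
      mul_comm := fun a b => Subtype.ext (hTcentral a a.2 b) }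
    let φ : ψ.ker →* (B → T) :=
      { toFun := fun g b => ⟨⁅(g : G), (b : G)⁆, hmem g b⟩
        map_one' := funext fun b => Subtype.ext (commutatorElement_one_left _)
        map_mul' := fun g h => funext fun b => Subtype.ext (by
          change ⁅(g : G) * h, (b : G)⁆ = ⁅(g : G), (b : G)⁆ * ⁅(h : G), (b : G)⁆
          have h1 : ⁅(g : G) * h, (b : G)⁆ = (g : G) * ⁅(h : G), (b : G)⁆ * (g : G)⁻¹ *
              ⁅(g : G), (b : G)⁆ := by
            rw [commutatorElement_def, commutatorElement_def, commutatorElement_def]; group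
          rw [h1, ← hTcentral _ (hmem h b) g, mul_inv_cancel_right, hTcentral _ (hmem h b)]) }
    refine Subgroup.isNilpotent_of_ker_le_center φ fun g hg => Subgroup.mem_center_iff.2 fun h => ?_
    have hgT : (g : G) ∈ T := hCB g (fun t ht => (hTcentral t ht g).symm) fun b hb => by
      have h1 : ⁅(g : G), b⁆ = 1 := congrArg Subtype.val (congrFun (MonoidHom.mem_ker.1 hg) ⟨b, hb⟩)
      exact commutatorElement_eq_one_iff_mul_comm.1 h1
    exact Subtype.ext (hTcentral _ hgT h).symm
  -- the pairing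
  choose rep hrep using hπ
  let f : W → W → ℂ := fun x y => sc ⟨⁅(rep x : G), (rep y : G)⁆, hBcomm _ (rep x).2 _ (rep y).2⟩
  have hcmul : ∀ a b c : B, ⁅(a : G) * b, (c : G)⁆ = ⁅(a : G), (c : G)⁆ * ⁅(b : G), (c : G)⁆ := by
    intro a b c
    have h1 : ⁅(a : G) * b, (c : G)⁆ = (a : G) * ⁅(b : G), (c : G)⁆ * (a : G)⁻¹ *
        ⁅(a : G), (c : G)⁆ := by
      rw [commutatorElement_def, commutatorElement_def, commutatorElement_def]; group
    rw [h1, ← hTcentral _ (hBcomm b b.2 c c.2) a, mul_inv_cancel_right,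
      hTcentral _ (hBcomm b b.2 c c.2)]
  have hfeq : ∀ a b : B, f (π a) (π b) = sc ⟨⁅(a : G), (b : G)⁆, hBcomm _ a.2 _ b.2⟩ := by
    intro a b
    have key : ∀ a a' b : B, π a = π a' → ⁅(a : G), (b : G)⁆ = ⁅(a' : G), (b : G)⁆ := by
      intro a a' b h
      have hT' := hπeq _ _ h
      have h1 : (a' : G) = (a : G) * ((a⁻¹ * a' : B) : G) := by
        rw [Subgroup.coe_mul, Subgroup.coe_inv, mul_inv_cancel_left]
      rw [h1, hcmul, show ⁅((a⁻¹ * a' : B) : G), (b : G)⁆ = 1 from
        commutatorElement_eq_one_iff_mul_comm.2 (hTcentral _ hT' b), mul_one]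
    refine congrArg sc (Subtype.ext ?_)
    change ⁅(rep (π a) : G), (rep (π b) : G)⁆ = ⁅(a : G), (b : G)⁆
    rw [key _ _ _ (hrep (π a))]
    rw [← commutatorElement_inv, key _ _ _ (hrep (π b)), commutatorElement_inv]
  let P : Alt W :=
    { f := f
      add_left := fun x y z => by
        obtain ⟨a, rfl⟩ : ∃ a, π a = x := ⟨_, hrep x⟩
        obtain ⟨b, rfl⟩ : ∃ a, π a = y := ⟨_, hrep y⟩
        obtain ⟨c, rfl⟩ : ∃ a, π a = z := ⟨_, hrep z⟩
        rw [← hπadd, hfeq, hfeq, hfeq, ← hscmul]
        exact congrArg sc (Subtype.ext (hcmul a b c))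
      add_right := fun x y z => by
        obtain ⟨a, rfl⟩ : ∃ a, π a = x := ⟨_, hrep x⟩
        obtain ⟨b, rfl⟩ : ∃ a, π a = y := ⟨_, hrep y⟩
        obtain ⟨c, rfl⟩ : ∃ a, π a = z := ⟨_, hrep z⟩
        rw [← hπadd, hfeq, hfeq, hfeq, ← hscmul]
        refine congrArg sc (Subtype.ext ?_)
        change ⁅(a : G), (b : G) * c⁆ = ⁅(a : G), (b : G)⁆ * ⁅(a : G), (c : G)⁆
        rw [← commutatorElement_inv, hcmul, mul_inv_rev, commutatorElement_inv, commutatorElement_inv,
          hTcentral _ (hBcomm a a.2 c c.2)]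
      self := fun x => by
        refine (congrArg sc (Subtype.ext ?_)).trans hscone
        exact commutatorElement_self _ }
  have hpres : ∀ (g : G) (x y : W), f (conj g x) (conj g y) = f x y := by
    intro g x y
    obtain ⟨a, rfl⟩ : ∃ a, π a = x := ⟨_, hrep x⟩
    obtain ⟨b, rfl⟩ : ∃ a, π a = y := ⟨_, hrep y⟩
    rw [hπact, hπact, hfeq, hfeq]
    refine congrArg sc (Subtype.ext ?_)
    change ⁅g * (a : G) * g⁻¹, g * (b : G) * g⁻¹⁆ = ⁅(a : G), (b : G)⁆
    rw [← conjugate_commutatorElement, ← hTcentral _ (hBcomm a a.2 b b.2) g, mul_inv_cancel_right]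
  have hradnd : ∀ U : AddSubgroup W, (∀ g : G, ∀ u ∈ U, conj g u ∈ U) → P.NondegOn U := by
    intro U hU
    let A : Subgroup G :=
      { carrier := {g | ∃ h : g ∈ B, π ⟨g, h⟩ ∈ U ⊓ P.perp (U : Set W)}
        one_mem' := ⟨one_mem B, by
          rw [show π ⟨1, one_mem B⟩ = 0 from ofMul_eq_zero.2 (map_one (QuotientGroup.mk' N))]
          exact zero_mem _⟩
        mul_mem' := fun {a b} ha hb => ⟨mul_mem ha.1 hb.1, by
          rw [show (⟨a * b, mul_mem ha.1 hb.1⟩ : B) = ⟨a, ha.1⟩ * ⟨b, hb.1⟩ from rfl, hπadd]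
          exact add_mem ha.2 hb.2⟩
        inv_mem' := fun {a} ha => ⟨inv_mem ha.1, by
          rw [show π ⟨a⁻¹, inv_mem ha.1⟩ = - π ⟨a, ha.1⟩ from
            congrArg Additive.ofMul (map_inv (QuotientGroup.mk' N) (⟨a, ha.1⟩ : B))]
          exact neg_mem ha.2⟩ }
    have hAn : A.Normal := ⟨fun a ha g => ⟨hBn.conj_mem a ha.1 g, by
      rw [show π ⟨g * a * g⁻¹, hBn.conj_mem a ha.1 g⟩ = conj g (π ⟨a, ha.1⟩) from
        (hπact g ⟨a, ha.1⟩).symm ▸ congrArg π (Subtype.ext rfl)]
      refine ⟨hU g _ ha.2.1, fun t ht => ?_⟩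
      have h1 : conj g (conj g⁻¹ t) = t := by
        change (conj g * conj g⁻¹) t = t
        rw [← map_mul, mul_inv_cancel, map_one]
        rfl
      change f (conj g (π ⟨a, ha.1⟩)) t = 1
      rw [← h1, hpres]
      exact ha.2.2 _ (hU g⁻¹ t ht)⟩⟩
    have hAc : ∀ a ∈ A, ∀ b ∈ A, a * b = b * a := fun a ha b hb => by
      have h1 : f (π ⟨a, ha.1⟩) (π ⟨b, hb.1⟩) = 1 := ha.2.2 _ hb.2.1
      rw [hfeq] at h1
      exact commutatorElement_eq_one_iff_mul_comm.1 (hscinj _ h1)
    rw [Alt.NondegOn, eq_bot_iff]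
    intro x hx
    obtain ⟨a, rfl⟩ : ∃ a, π a = x := ⟨_, hrep x⟩
    have haT : (a : G) ∈ T := hprim A hAn hAc a ⟨a.2, hx⟩
    exact AddSubgroup.mem_bot.2 (ofMul_eq_zero.2 ((QuotientGroup.eq_one_iff _).2 haT))
  have hnd : P.Nondeg := P.nondegOn_top_iff.1 (hradnd ⊤ fun _ _ _ => AddSubgroup.mem_top _)
  have hX : Preserves P ψ.range :=
    { nondeg := hnd
      pres := by
        rintro ⟨_, g, rfl⟩ x y
        exact hpres g x y
      faithful := fun g hg => Subtype.ext (Units.ext (AddMonoidHom.ext fun w => hg w)) }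
  obtain ⟨e, he, hk⟩ := kbound_isometries _ W ψ.range P rfl hX fun U hU =>
    hradnd U fun g u hu => hU ⟨ψ g, g, rfl⟩ u hu
  -- the dimension
  haveI := Fintype.ofFinite W
  have hli : LinearIndependent ℂ fun x : W => ρ (rep x : G) := by
    rw [Fintype.linearIndependent_iff]
    intro c hc x0
    have horth : ∀ x : W, x ≠ x0 → ∑ y : W, f y (x - x0) = 0 := by
      intro x hx
      let h : Multiplicative W →* ℂ :=
        { toFun := fun y => f y.toAdd (x - x0)
          map_one' := P.zero_left _
          map_mul' := fun a b => P.add_left _ _ _ }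
      have h1 := sum_hom_units_eq_zero h (fun hh => by
        refine sub_ne_zero.2 hx (hnd _ fun y => P.swap_eq_one ?_)
        exact DFunLike.congr_fun hh (Multiplicative.ofAdd y))
      rw [← h1]
      exact Fintype.sum_equiv Multiplicative.ofAdd _ _ fun y => rfl
    have hconj : ∀ x y : W, ρ (rep y : G) * ρ (rep x : G) * ρ ((rep y : G))⁻¹ =
        f y x • ρ (rep x : G) := by
      intro x y
      rw [← map_mul, ← map_mul, show (rep y : G) * rep x * (rep y : G)⁻¹ =
        ⁅(rep y : G), (rep x : G)⁆ * rep x by rw [commutatorElement_def]; group, map_mul]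
      change _ = sc _ • _
      rw [← one_mul (ρ (rep x : G)), ← smul_mul_assoc, one_mul]
      congr 1
      exact hsc ⟨⁅(rep y : G), (rep x : G)⁆, hBcomm _ (rep y).2 _ (rep x).2⟩
    have h0 : ∑ y : W, (f y x0)⁻¹ • (ρ (rep y : G) * (∑ x, c x • ρ (rep x : G)) *
        ρ ((rep y : G))⁻¹) = 0 := by
      simp only [hc, mul_zero, zero_mul, smul_zero, Finset.sum_const_zero]
    simp only [Finset.mul_sum, Finset.sum_mul, mul_smul_comm, smul_mul_assoc, hconj, smul_smul,
      Finset.smul_sum] at h0
    rw [Finset.sum_comm] at h0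
    simp only [← Finset.sum_smul] at h0
    rw [Finset.sum_eq_single x0] at h0
    · have h1 : ∀ y : W, (f y x0)⁻¹ * (c x0 * f y x0) = c x0 := fun y => by
        rw [mul_comm (c x0), ← mul_assoc, inv_mul_cancel₀ (P.ne_zero y x0), one_mul]
      simp only [h1, Finset.sum_const, Finset.card_univ] at h0
      rcases smul_eq_zero.1 h0 with h2 | h2
      · rcases smul_eq_zero.1 h2 with h3 | h3
        · exact absurd h3 Fintype.card_ne_zero
        · exact h3
      · exfalso
        have h3 : ρ (rep x0 : G) * ρ (rep x0 : G)⁻¹ = 1 := by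
          rw [← map_mul, mul_inv_cancel, map_one]
        rw [h2, zero_mul] at h3
        exact zero_ne_one h3
    · intro x _ hx
      have h1 : ∀ y : W, (f y x0)⁻¹ * (c x * f y x) = c x * f y (x - x0) := fun y => by
        have h2 : f y x = f y (x - x0) * f y x0 := by
          change P.f y x = P.f y (x - x0) * P.f y x0
          rw [← P.add_right, sub_add_cancel]
        rw [h2]
        calc (f y x0)⁻¹ * (c x * (f y (x - x0) * f y x0))
            = c x * f y (x - x0) * ((f y x0)⁻¹ * f y x0) := by ring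
          _ = c x * f y (x - x0) := by rw [inv_mul_cancel₀ (P.ne_zero y x0), mul_one]
      simp only [h1, ← Finset.mul_sum, horth x hx, mul_zero, zero_smul]
    · intro h; exact absurd (Finset.mem_univ x0) h
  have hcard : e * e ≤ Module.finrank ℂ V * Module.finrank ℂ V := by
    rw [he, Nat.card_eq_fintype_card]
    exact hli.fintype_card_le_finrank.trans_eq (Module.finrank_linearMap ℂ ℂ V V)
  have he' : e ≤ Module.finrank ℂ V := Nat.mul_self_le_mul_self_iff.1 hcard
  refine (kbound_quotient_fitting ψ.rangeRestrict ?_ hk).mono_n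
    (Nat.pow_le_pow_right (by norm_num) (by omega))
  rwa [MonoidHom.ker_rangeRestrict]

end Cfsg.Agent.H30.ClassFit
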