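import Cfsg.Agent.H30.ClassFit.Cyclic
import Cfsg.Agent.H30.ClassFit.Perm

/-!
The exceptional cases: irreducible solvable isometry groups in dimensions four and six over
the field with two elements.
-/

namespace Cfsg.Agent.H30.ClassFit

open scoped Pointwise

variable {X V : Type*} [Group X] [Finite X] [AddCommGroup V] [Finite V] [DistribMulAction X V]
  {B : Alt V}

/-- Two planes for an element of order three in dimension four. -/
theorem exists_two_planes (hX : Preserves B X) (hV : ∀ v : V, 2 • v = 0)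
    (hd : Nat.card V = 2 ^ 4) {τ : X} (hτ : FPF V τ 3) :
    ∃ P Q : AddSubgroup V, Nat.card P = 4 ∧ Nat.card Q = 4 ∧ B.NondegOn P ∧ B.NondegOn Q ∧
      P ⊔ Q = ⊤ ∧ P ≠ Q ∧ ∀ x : X, x⁻¹ * τ * x ∈ Subgroup.zpowers τ → x * τ * x⁻¹ ∈ Subgroup.zpowers τ →
        ∀ R, (R = P ∨ R = Q) → (x • R = P ∨ x • R = Q) := by
  haveI : Nontrivial V := Finite.one_lt_card_iff_nontrivial.1 (by rw [hd]; norm_num)
  obtain ⟨v, -, hv⟩ := exists_aniso hX hτ (by decide) (U := ⊤) (fun _ _ _ _ => AddSubgroup.mem_top _)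
    (B.nondegOn_top_iff.2 hX.nondeg) (fun h => by
      obtain ⟨w, hw⟩ := exists_ne (0 : V)
      exact hw (AddSubgroup.mem_bot.1 (h ▸ AddSubgroup.mem_top w)))
  have hv0 : v ≠ 0 := fun h => hv (by rw [h, B.zero_left])
  set P := span2 τ v with hP
  set Q := B.perp (P : Set V) with hQ
  have hPc : Nat.card P = 4 := card_span2 hV hτ hv0
  have hPn : B.NondegOn P := nondegOn_span2 hX hV hτ hv
  have hQc : Nat.card Q = 4 := by
    have h := Alt.card_mul_card_perp hX.nondeg P
    rw [hPc, hd] at h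
    change 4 * Nat.card Q = 2 ^ 4 at h
    norm_num at h
    omega
  have hQn : B.NondegOn Q := Alt.nondegOn_perp hX.nondeg hPn
  have hPi := span2_invariant hV hτ v
  have hQi : ∀ g ∈ Subgroup.zpowers τ, ∀ u ∈ Q, g • u ∈ Q := fun g hg u hu t ht => by
    have h := hX.pres g u (g⁻¹ • t)
    rw [smul_inv_smul] at h
    rw [h]
    exact hu _ (hPi _ (inv_mem hg) t ht)
  have hne : P ≠ Q := fun h => by
    have : v ∈ P ⊓ Q := ⟨self_mem_span2 τ v, h ▸ self_mem_span2 τ v⟩
    rw [hPn, AddSubgroup.mem_bot] at this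
    exact hv0 this
  refine ⟨P, Q, hPc, hQc, hPn, hQn, Alt.sup_perp_eq_top hX.nondeg hPn, hne, fun x hx hx' R hR => ?_⟩
  have hRc : Nat.card R = 4 := by rcases hR with rfl | rfl <;> assumption
  have hRn : B.NondegOn R := by rcases hR with rfl | rfl <;> assumption
  have hRi : ∀ g ∈ Subgroup.zpowers τ, ∀ u ∈ R, g • u ∈ R := by
    rcases hR with rfl | rfl <;> assumption
  haveI : Nontrivial R := Finite.one_lt_card_iff_nontrivial.1 (by rw [hRc]; norm_num)
  obtain ⟨⟨r, hr⟩, hr0⟩ := exists_ne (0 : R)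
  have hr0' : r ≠ 0 := fun h => hr0 (Subtype.ext h)
  have han : B.f (x • r) (τ • x • r) ≠ 1 := by
    rw [aniso_smul hX hV hτ hx]
    exact aniso_of_plane hV hτ hRi hRc hRn hr hr0'
  obtain ⟨a, ha, b, hb, hab⟩ := AddSubgroup.mem_sup.1
    (Alt.sup_perp_eq_top hX.nondeg hPn ▸ AddSubgroup.mem_top (x • r) : x • r ∈ P ⊔ Q)
  have hxi : ∀ g ∈ Subgroup.zpowers τ, ∀ u ∈ x • R, g • u ∈ x • R := by
    intro g hg u hu
    obtain ⟨n, rfl⟩ := (mem_powers_iff_mem_zpowers (x := τ)).2 hg
    obtain ⟨u0, hu0, rfl⟩ : ∃ u0 ∈ R, x • u0 = u := hu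
    have h1 : τ ^ n • x • u0 = x • ((x⁻¹ * τ * x) ^ n • u0) := by
      rw [show (x⁻¹ * τ * x) ^ n = x⁻¹ * τ ^ n * x by
        simpa using conj_pow (a := x⁻¹) (b := τ) (i := n), ← mul_smul, ← mul_smul]
      congr 1; group
    change τ ^ n • x • u0 ∈ x • R
    rw [h1]
    exact AddSubgroup.smul_mem_pointwise_smul _ x R (hRi _ (pow_mem hx n) u0 hu0)
  have hxc : Nat.card (x • R : AddSubgroup V) = 4 := by
    rw [← hRc]
    exact (Nat.card_congr (R.equivMapOfInjective _ (MulAction.injective x)).toEquiv).symm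
  have key : ∀ S : AddSubgroup V, Nat.card S = 4 → (∀ g ∈ Subgroup.zpowers τ, ∀ u ∈ S, g • u ∈ S) →
      x • r ∈ S → x • R = S := by
    intro S hS hSi hmem
    have h1 : span2 τ (x • r) ≤ S := span2_le hmem (hSi τ (Subgroup.mem_zpowers τ) _ hmem)
    have h2 : span2 τ (x • r) ≤ x • R := span2_le (AddSubgroup.smul_mem_pointwise_smul r x R hr)
      (hxi τ (Subgroup.mem_zpowers τ) _ (AddSubgroup.smul_mem_pointwise_smul r x R hr))
    have hc := card_span2 hV hτ (fun h : x • r = 0 => hr0' ((smul_eq_zero_iff_eq x).1 h))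
    exact (AddSubgroup.eq_of_le_of_card_ge h2 (by rw [hxc, hc])).symm.trans
      (AddSubgroup.eq_of_le_of_card_ge h1 (by rw [hS, hc]))
  by_cases hb0 : b = 0
  · rw [hb0, add_zero] at hab
    exact Or.inl (key P hPc hPi (hab ▸ ha))
  by_cases ha0 : a = 0
  · rw [ha0, zero_add] at hab
    exact Or.inr (key Q hQc hQi (hab ▸ hb))
  exfalso
  apply han
  rw [← hab, n_add hX hPi ha hb,
    (f_sq hV a (τ • a)).resolve_left (aniso_of_plane hV hτ hPi hPc hPn ha ha0),
    (f_sq hV b (τ • b)).resolve_left (aniso_of_plane hV hτ hQi hQc hQn hb hb0)]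
  norm_num

theorem kbound_three_four (hX : Preserves B X) (hV : ∀ v : V, 2 • v = 0)
    (hd : Nat.card V = 2 ^ 4) {τ : X} (hτ : FPF V τ 3) [hn : (Subgroup.zpowers τ).Normal] :
    KBound X 18 := by
  classical
  obtain ⟨P, Q, hPc, hQc, hPn, hQn, hsup, hne, hperm⟩ := exists_two_planes hX hV hd hτ
  have h := kbound_of_planes hX hV {P, Q} ?_ ?_ ?_ ?_
  · rwa [Finset.card_pair hne, show 3 ^ 2 * Nat.factorial 2 = 18 by rfl] at h
  · intro W hW
    rcases Finset.mem_insert.1 hW with rfl | hW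
    · exact hPc
    · rw [Finset.mem_singleton.1 hW]; exact hQc
  · intro W hW
    rcases Finset.mem_insert.1 hW with rfl | hW
    · exact hPn
    · rw [Finset.mem_singleton.1 hW]; exact hQn
  · intro x W hW
    simp only [Finset.mem_insert, Finset.mem_singleton] at hW ⊢
    exact hperm x (by simpa using hn.conj_mem τ (Subgroup.mem_zpowers τ) x⁻¹)
      (hn.conj_mem τ (Subgroup.mem_zpowers τ) x) W hW
  · rw [eq_top_iff, ← hsup, sup_le_iff]
    exact ⟨le_iSup₂ (f := fun W (_ : W ∈ ({P, Q} : Finset _)) => W) P (by simp),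
      le_iSup₂ (f := fun W (_ : W ∈ ({P, Q} : Finset _)) => W) Q (by simp)⟩

theorem index_centralizer_le {τ : X} {q : ℕ} (hq : q.Prime) (hτq : τ ^ q = 1) (hτ1 : τ ≠ 1)
    [hn : (Subgroup.zpowers τ).Normal] :
    Nat.card X ≤ (q - 1) * Nat.card (Subgroup.centralizer ({τ} : Set X)) := by
  haveI := Fact.mk hq
  have h := (Subgroup.card_mul_index (Subgroup.centralizer ({τ} : Set X))).symm
  rw [h, mul_comm]
  refine Nat.mul_le_mul_right _ ?_
  let Φ : X ⧸ Subgroup.centralizer ({τ} : Set X) → ((Subgroup.zpowers τ : Set X) \ {1} : Set X) :=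
    fun c => ⟨c.out * τ * c.out⁻¹, hn.conj_mem τ (Subgroup.mem_zpowers τ) _, fun h' => hτ1 (by
      rw [Set.mem_singleton_iff] at h'
      calc τ = c.out⁻¹ * (c.out * τ * c.out⁻¹) * c.out := by group
        _ = 1 := by rw [h']; group)⟩
  have hΦ : Function.Injective Φ := fun c c' hcc => by
    have h' := congrArg Subtype.val hcc
    change c.out * τ * c.out⁻¹ = c'.out * τ * c'.out⁻¹ at h'
    rw [← QuotientGroup.out_eq' c, ← QuotientGroup.out_eq' c', QuotientGroup.eq,
      Subgroup.mem_centralizer_singleton_iff]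
    calc c.out⁻¹ * c'.out * τ = c.out⁻¹ * (c'.out * τ * c'.out⁻¹) * c'.out := by group
      _ = τ * (c.out⁻¹ * c'.out) := by rw [← h']; group
  refine (Nat.card_le_card_of_injective Φ hΦ).trans (le_of_eq ?_)
  rw [Nat.card_coe_set_eq, Set.ncard_sdiff (by simp [Subgroup.one_mem]),
    Set.ncard_singleton, ← Nat.card_coe_set_eq, SetLike.coe_sort_coe, Nat.card_zpowers,
    orderOf_eq_prime hτq hτ1]

/-- Recursion for the numbers of anisotropic and isotropic vectors. -/
theorem count_step (hX : Preserves B X) (hV : ∀ v : V, 2 • v = 0) {τ : X} (hτ : FPF V τ 3)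
    {U : AddSubgroup V} {v : V} (hv : v ∈ aniso B τ U)
    (hU : ∀ g ∈ Subgroup.zpowers τ, ∀ u ∈ U, g • u ∈ U) :
    (aniso B τ U).ncard ≤ 3 * (iso B τ (U ⊓ B.perp (span2 τ v : Set V))).ncard +
        (aniso B τ (U ⊓ B.perp (span2 τ v : Set V))).ncard ∧
      (iso B τ U).ncard ≤ (iso B τ (U ⊓ B.perp (span2 τ v : Set V))).ncard +
        3 * (aniso B τ (U ⊓ B.perp (span2 τ v : Set V))).ncard := by
  classical
  set P := span2 τ v with hP
  set U' := U ⊓ B.perp (P : Set V) with hU'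
  have hv0 : v ≠ 0 := fun h => hv.2 (by rw [h, B.zero_left])
  have hPn : B.NondegOn P := nondegOn_span2 hX hV hτ hv.2
  have hPi := span2_invariant hV hτ v
  have hPU : P ≤ U := span2_le hv.1 (hU τ (Subgroup.mem_zpowers τ) v hv.1)
  have hPc : Nat.card P = 4 := card_span2 hV hτ hv0
  have hdec : ∀ u ∈ U, ∃ a ∈ P, ∃ b ∈ U', a + b = u ∧
      B.f u (τ • u) = (if a = 0 then 1 else -1) * B.f b (τ • b) := by
    intro u hu
    obtain ⟨a, ha, b, hb, rfl⟩ := AddSubgroup.mem_sup.1
      (Alt.sup_perp_eq_top hX.nondeg hPn ▸ AddSubgroup.mem_top u : u ∈ P ⊔ B.perp (P : Set V))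
    refine ⟨a, ha, b, ⟨?_, hb⟩, rfl, ?_⟩
    · have := U.sub_mem hu (hPU ha)
      rwa [add_sub_cancel_left] at this
    · rw [n_add hX hPi ha hb]
      split_ifs with h
      · rw [h, B.zero_left]
      · rw [(f_sq hV a (τ • a)).resolve_left (aniso_of_plane hV hτ hPi hPc hPn ha h)]
  have hP3 : ((P : Set V) \ {0}).ncard = 3 := by
    rw [Set.ncard_sdiff (by simp), Set.ncard_singleton]
    exact congrArg (· - 1) hPc
  have hprod : ∀ S T : Set V, (Set.image2 (· + ·) S T).ncard ≤ S.ncard * T.ncard := fun S T => by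
    rw [← Set.image_prod, ← Set.ncard_prod]
    exact Set.ncard_image_le (Set.toFinite _)
  constructor
  · refine (Set.ncard_le_ncard (t := Set.image2 (· + ·) ((P : Set V) \ {0}) (iso B τ U') ∪
      aniso B τ U') ?_ (Set.toFinite _)).trans ?_
    · intro u hu
      obtain ⟨a, ha, b, hb, rfl, hf⟩ := hdec u hu.1
      have hu2 := hu.2
      rw [hf] at hu2
      by_cases h : a = 0
      · rw [if_pos h, one_mul] at hu2
        exact Or.inr (by rw [h, zero_add]; exact ⟨hb, hu2⟩)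
      · rw [if_neg h] at hu2
        refine Or.inl ⟨a, ⟨ha, h⟩, b, ⟨hb, ?_⟩, rfl⟩
        rcases f_sq hV b (τ • b) with hb1 | hb1
        · exact hb1
        · exact absurd (by rw [hb1]; norm_num) hu2
    · refine (Set.ncard_union_le _ _).trans (Nat.add_le_add_right ?_ _)
      refine (hprod _ _).trans ?_
      rw [hP3]
  · refine (Set.ncard_le_ncard (t := iso B τ U' ∪
      Set.image2 (· + ·) ((P : Set V) \ {0}) (aniso B τ U')) ?_ (Set.toFinite _)).trans ?_
    · intro u hu
      obtain ⟨a, ha, b, hb, rfl, hf⟩ := hdec u hu.1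
      have hu2 := hu.2
      rw [hf] at hu2
      by_cases h : a = 0
      · rw [if_pos h, one_mul] at hu2
        exact Or.inl (by rw [h, zero_add]; exact ⟨hb, hu2⟩)
      · rw [if_neg h] at hu2
        refine Or.inr ⟨a, ⟨ha, h⟩, b, ⟨hb, fun hb1 => ?_⟩, rfl⟩
        rw [hb1] at hu2
        norm_num at hu2
    · refine (Set.ncard_union_le _ _).trans (Nat.add_le_add_left ?_ _)
      refine (hprod _ _).trans ?_
      rw [hP3]

theorem card_three_six (hX : Preserves B X) (hV : ∀ v : V, 2 • v = 0)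
    (hd : Nat.card V = 2 ^ 6) {τ : X} (hτ : FPF V τ 3) [(Subgroup.zpowers τ).Normal] :
    Nat.card X ≤ 1296 := by
  haveI : Nontrivial V := Finite.one_lt_card_iff_nontrivial.1 (by rw [hd]; norm_num)
  obtain ⟨w, hw⟩ := exists_ne (0 : V)
  have hτ1 : τ ≠ 1 := fun h => hw (hτ.free w (by rw [h, one_smul]))
  have hperp : ∀ (U : AddSubgroup V), (∀ g ∈ Subgroup.zpowers τ, ∀ u ∈ U, g • u ∈ U) →
      ∀ g ∈ Subgroup.zpowers τ, ∀ u ∈ B.perp (U : Set V), g • u ∈ B.perp (U : Set V) := by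
    intro U hU g hg u hu t ht
    have h := hX.pres g u (g⁻¹ • t)
    rw [smul_inv_smul] at h
    rw [h]
    exact hu _ (hU _ (inv_mem hg) t ht)
  obtain ⟨v1, -, hv1⟩ := exists_aniso hX hτ (by decide) (U := ⊤) (fun _ _ _ _ => AddSubgroup.mem_top _)
    (B.nondegOn_top_iff.2 hX.nondeg) (fun h => hw (AddSubgroup.mem_bot.1 (h ▸ AddSubgroup.mem_top w)))
  set P1 := span2 τ v1
  have hP1n : B.NondegOn P1 := nondegOn_span2 hX hV hτ hv1
  set U2 := B.perp (P1 : Set V)
  have hU2i := hperp P1 (span2_invariant hV hτ v1)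
  have hU2c : Nat.card U2 = 16 := by
    have h := Alt.card_mul_card_perp hX.nondeg P1
    rw [card_span2 hV hτ (fun h0 => hv1 (by rw [h0, B.zero_left])), hd] at h
    change 4 * Nat.card U2 = 2 ^ 6 at h
    norm_num at h
    omega
  have hU2n : B.NondegOn U2 := Alt.nondegOn_perp hX.nondeg hP1n
  obtain ⟨v2, hv2⟩ := exists_aniso hX hτ (by decide) hU2i hU2n (fun h => by
    have h1 : Nat.card U2 = 1 := by
      change Nat.card (B.perp (P1 : Set V)) = 1
      rw [h, AddSubgroup.card_bot]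
    omega)
  set P2 := span2 τ v2
  have hP2i := span2_invariant hV hτ v2
  have hP2n : B.NondegOn P2 := nondegOn_span2 hX hV hτ hv2.2
  set U3 := U2 ⊓ B.perp (P2 : Set V)
  have hP2U : P2 ≤ U2 := span2_le hv2.1 (hU2i τ (Subgroup.mem_zpowers τ) v2 hv2.1)
  have hU3i : ∀ g ∈ Subgroup.zpowers τ, ∀ u ∈ U3, g • u ∈ U3 := fun g hg u hu =>
    ⟨hU2i g hg u hu.1, hperp P2 hP2i g hg u hu.2⟩
  have hdec2 : ∀ u ∈ U2, ∃ a ∈ P2, ∃ b ∈ U3, a + b = u := by
    intro u hu
    obtain ⟨a, ha, b, hb, rfl⟩ := AddSubgroup.mem_sup.1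
      (Alt.sup_perp_eq_top hX.nondeg hP2n ▸ AddSubgroup.mem_top u : u ∈ P2 ⊔ B.perp (P2 : Set V))
    refine ⟨a, ha, b, ⟨?_, hb⟩, rfl⟩
    have := U2.sub_mem hu (hP2U ha)
    rwa [add_sub_cancel_left] at this
  have hU3c : Nat.card U3 = 4 := by
    let f : P2 × U3 →+ U2 :=
      (AddSubgroup.inclusion hP2U).coprod (AddSubgroup.inclusion inf_le_left)
    have hbij : Function.Bijective f := by
      refine ⟨(injective_iff_map_eq_zero f).2 fun ⟨a, b⟩ h => ?_, fun u => ?_⟩
      · have h' : (a : V) + b = 0 := congrArg Subtype.val h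
        have hb : (b : V) ∈ P2 ⊓ B.perp (P2 : Set V) := ⟨by
          rw [show (b : V) = -(a : V) from eq_neg_of_add_eq_zero_right h']
          exact P2.neg_mem a.2, b.2.2⟩
        rw [hP2n, AddSubgroup.mem_bot] at hb
        rw [hb, add_zero] at h'
        exact Prod.ext (Subtype.ext h') (Subtype.ext hb)
      · obtain ⟨a, ha, b, hb, hab⟩ := hdec2 u u.2
        exact ⟨(⟨a, ha⟩, ⟨b, hb⟩), Subtype.ext hab⟩
    have h := Nat.card_eq_of_bijective f hbij
    rw [Nat.card_prod, hU2c, card_span2 hV hτ (fun h0 => hv2.2 (by rw [h0, B.zero_left]))] at h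
    omega
  have hU3n : B.NondegOn U3 := by
    rw [Alt.NondegOn, eq_bot_iff]
    rintro u ⟨hu, hup⟩
    have hm : u ∈ U2 ⊓ B.perp (U2 : Set V) := ⟨hu.1, fun t ht => by
      obtain ⟨a, ha, b, hb, rfl⟩ := hdec2 t ht
      rw [B.add_right, hu.2 a ha, hup b hb, one_mul]⟩
    rw [hU2n, AddSubgroup.mem_bot] at hm
    exact AddSubgroup.mem_bot.2 hm
  obtain ⟨v3, hv3⟩ := exists_aniso hX hτ (by decide) hU3i hU3n (fun h => by
    rw [h, AddSubgroup.card_bot] at hU3c
    norm_num at hU3c)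
  have hA3 : (aniso B τ U3).ncard ≤ 3 := by
    refine (Set.ncard_le_ncard (t := (U3 : Set V) \ {0})
      (fun u hu => ⟨hu.1, fun h => hu.2 (by rw [Set.mem_singleton_iff.1 h, B.zero_left])⟩)
      (Set.toFinite _)).trans ?_
    rw [Set.ncard_sdiff (by simp), Set.ncard_singleton]
    exact le_of_eq (congrArg (· - 1) hU3c)
  have hI3 : (iso B τ U3).ncard ≤ 1 := by
    refine (Set.ncard_le_ncard (t := {0}) (fun u hu => ?_) (Set.toFinite _)).trans
      (Set.ncard_singleton _).le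
    by_contra h0
    exact aniso_of_plane hV hτ hU3i hU3c hU3n hu.1 h0 hu.2
  obtain ⟨hA2, hI2⟩ := count_step hX hV hτ hv2 hU2i
  obtain ⟨hA1, -⟩ := count_step hX hV hτ (U := ⊤) ⟨AddSubgroup.mem_top v1, hv1⟩
    (fun _ _ _ _ => AddSubgroup.mem_top _)
  rw [top_inf_eq] at hA1
  change (aniso B τ U2).ncard ≤ 3 * (iso B τ U3).ncard + (aniso B τ U3).ncard at hA2
  change (iso B τ U2).ncard ≤ (iso B τ U3).ncard + 3 * (aniso B τ U3).ncard at hI2
  change (aniso B τ ⊤).ncard ≤ 3 * (iso B τ U2).ncard + (aniso B τ U2).ncard at hA1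
  set C := Subgroup.centralizer ({τ} : Set X)
  have hcomm : ∀ c ∈ C, ∀ u : V, τ • c • u = c • τ • u := fun c hc u => by
    rw [← mul_smul, ← Subgroup.mem_centralizer_singleton_iff.1 hc, mul_smul]
  have hn : ∀ c ∈ C, ∀ u : V, B.f (c • u) (τ • c • u) = B.f u (τ • u) := fun c hc u => by
    rw [hcomm c hc, hX.pres]
  have hfixP : ∀ (c : X) (v : V), c ∈ C → c • v = v → ∀ u ∈ span2 τ v, c • u = u := by
    intro c v hc hv u hu
    obtain ⟨a, ha, b, hb, rfl⟩ := AddSubgroup.mem_sup.1 hu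
    obtain ⟨i, rfl⟩ := AddSubgroup.mem_zmultiples_iff.1 ha
    obtain ⟨j, rfl⟩ := AddSubgroup.mem_zmultiples_iff.1 hb
    rw [smul_add, smul_comm c i v, hv, smul_comm c j (τ • v), ← hcomm c hc, hv]
  have hfixperp : ∀ (c : X) (P : AddSubgroup V), (∀ t ∈ P, c • t = t) →
      ∀ u ∈ B.perp (P : Set V), c • u ∈ B.perp (P : Set V) := fun c P hc u hu t ht => by
    have h := hX.pres c u t
    rw [hc t ht] at h
    rw [h]; exact hu t ht
  have h1 := card_le_mul_stab C v1 (aniso B τ ⊤) fun c hc =>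
    ⟨AddSubgroup.mem_top _, by rw [hn c hc]; exact hv1⟩
  have h2 := card_le_mul_stab (C ⊓ MulAction.stabilizer X v1) v2 (aniso B τ U2) fun c hc =>
    ⟨hfixperp c P1 (hfixP c v1 hc.1 hc.2) v2 hv2.1, by rw [hn c hc.1]; exact hv2.2⟩
  have h3 := card_le_mul_stab (C ⊓ MulAction.stabilizer X v1 ⊓ MulAction.stabilizer X v2) v3
    (aniso B τ U3) fun c hc =>
      ⟨⟨hfixperp c P1 (hfixP c v1 hc.1.1 hc.1.2) v3 hv3.1.1,
        hfixperp c P2 (hfixP c v2 hc.1.1 hc.2) v3 hv3.1.2⟩, by rw [hn c hc.1.1]; exact hv3.2⟩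
  have hbot : C ⊓ MulAction.stabilizer X v1 ⊓ MulAction.stabilizer X v2 ⊓ MulAction.stabilizer X v3
      = ⊥ := by
    rw [eq_bot_iff]
    intro c hc
    refine Subgroup.mem_bot.2 (hX.faithful c fun u => ?_)
    obtain ⟨a, ha, b, hb, rfl⟩ := AddSubgroup.mem_sup.1
      (Alt.sup_perp_eq_top hX.nondeg hP1n ▸ AddSubgroup.mem_top u : u ∈ P1 ⊔ U2)
    obtain ⟨a2, ha2, b2, hb2, rfl⟩ := hdec2 b hb
    have hb2' : b2 ∈ span2 τ v3 := by
      have he : span2 τ v3 = U3 := AddSubgroup.eq_of_le_of_card_ge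
        (span2_le hv3.1 (hU3i τ (Subgroup.mem_zpowers τ) v3 hv3.1))
        (by rw [hU3c, card_span2 hV hτ (fun h0 => hv3.2 (by rw [h0, B.zero_left]))])
      rw [he]; exact hb2
    rw [smul_add, smul_add, hfixP c v1 hc.1.1.1 hc.1.1.2 a ha, hfixP c v2 hc.1.1.1 hc.1.2 a2 ha2,
      hfixP c v3 hc.1.1.1 hc.2 b2 hb2']
  rw [hbot, Subgroup.card_bot, mul_one] at h3
  have hC : Nat.card C ≤ 36 * (6 * 3) :=
    h1.trans (Nat.mul_le_mul (by omega) (h2.trans (Nat.mul_le_mul (by omega) (h3.trans hA3))))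
  have := index_centralizer_le Nat.prime_three hτ.pow hτ1
  rw [show (3 : ℕ) - 1 = 2 by rfl] at this
  change Nat.card X ≤ 2 * Nat.card C at this
  omega

theorem card_five_four (hX : Preserves B X) (hV : ∀ v : V, 2 • v = 0)
    (hd : Nat.card V = 2 ^ 4) {τ : X} (hτ : FPF V τ 5) [(Subgroup.zpowers τ).Normal] :
    Nat.card X ≤ 20 := by
  haveI : Nontrivial V := Finite.one_lt_card_iff_nontrivial.1 (by rw [hd]; norm_num)
  obtain ⟨w, hw⟩ := exists_ne (0 : V)
  have hτ1 : τ ≠ 1 := fun h => hw (hτ.free w (by rw [h, one_smul]))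
  set C := Subgroup.centralizer ({τ} : Set X) with hC
  have hfree : ∀ c ∈ C, c ≠ 1 → ∀ v : V, c • v = v → v = 0 := by
    intro c hc hc1 v hv
    let E : AddSubgroup V := fixpts V (Subgroup.zpowers c)
    have hinv : ∀ u ∈ E, τ • u ∈ E := fun u hu => smul_fixpts_le (Subgroup.zpowers c) τ (fun h hh => by
      obtain ⟨i, rfl⟩ := Subgroup.mem_zpowers_iff.1 hh
      rw [mul_assoc, ((show Commute c τ from Subgroup.mem_centralizer_singleton_iff.1 hc).zpow_left i).eq,
        inv_mul_cancel_left]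
      exact zpow_mem (Subgroup.mem_zpowers c) i) hu
    have h1 := card_modEq_one hτ E hinv
    have h2 : Nat.card E ∣ 2 ^ 4 := hd ▸ AddSubgroup.card_addSubgroup_dvd_card E
    obtain ⟨k, hk, hk'⟩ := (Nat.dvd_prime_pow Nat.prime_two).1 h2
    rw [hk'] at h1
    have hvE : v ∈ E := fun h hh => (Subgroup.zpowers_le.2 (MulAction.mem_stabilizer_iff.2 hv) hh :
      h ∈ MulAction.stabilizer X v)
    interval_cases k <;> norm_num [Nat.ModEq] at h1
    · rw [AddSubgroup.eq_bot_of_card_eq E hk', AddSubgroup.mem_bot] at hvE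
      exact hvE
    · refine absurd (hX.faithful c fun u => ?_) hc1
      have : E = ⊤ := AddSubgroup.eq_top_of_card_eq E (by rw [hk', hd])
      exact (this ▸ AddSubgroup.mem_top u : u ∈ E) c (Subgroup.mem_zpowers c)
  have hno3 : ¬ 3 ∣ Nat.card C := by
    intro h3
    haveI := Fact.mk Nat.prime_three
    obtain ⟨σ, hσ⟩ := exists_prime_orderOf_dvd_card' (G := C) 3 h3
    have hσ1 : (σ : X) ≠ 1 := fun h => by
      rw [show σ = 1 from Subtype.ext h, orderOf_one] at hσ
      norm_num at hσ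
    have hσF : FPF V (σ : X) 3 :=
      ⟨Nat.prime_three, by rw [← Subgroup.coe_pow, ← hσ, pow_orderOf_eq_one]; rfl,
        hfree _ σ.2 hσ1⟩
    obtain ⟨P, Q, hPc, -, -, -, -, -, hperm⟩ := exists_two_planes hX hV hd hσF
    have hcom : Commute (σ : X) τ := Subgroup.mem_centralizer_singleton_iff.1 σ.2
    have hτconj : ∀ n : ℕ, (τ ^ n)⁻¹ * σ * τ ^ n ∈ Subgroup.zpowers (σ : X) ∧
        τ ^ n * σ * (τ ^ n)⁻¹ ∈ Subgroup.zpowers (σ : X) := fun n => by
      constructor
      · rw [mul_assoc, (hcom.pow_right n).eq, inv_mul_cancel_left]; exact Subgroup.mem_zpowers _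
      · rw [← (hcom.pow_right n).eq, mul_inv_cancel_right]; exact Subgroup.mem_zpowers _
    have hstep : ∀ R, (R = P ∨ R = Q) → (τ • R = P ∨ τ • R = Q) := fun R hR => by
      have := hperm (τ ^ 1) (hτconj 1).1 (hτconj 1).2 R hR
      rwa [pow_one] at this
    have hτP : τ • P = P := by
      rcases hstep P (Or.inl rfl) with h | h
      · exact h
      rcases hstep Q (Or.inr rfl) with h' | h'
      · have h2 : τ ^ 2 • P = P := by rw [pow_two, mul_smul, h, h']
        have h5 : τ • P = τ ^ 5 • P := by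
          rw [show τ ^ 5 = τ * (τ ^ 2 * τ ^ 2) by group, mul_smul, mul_smul, h2, h2]
        rw [h5, hτ.pow, one_smul]
      · have h2 : τ • P = τ • Q := h.trans h'.symm
        rw [h]
        exact (MulAction.injective τ h2).symm
    have h1 := card_modEq_one hτ P fun u hu => hτP ▸ AddSubgroup.smul_mem_pointwise_smul u τ P hu
    rw [hPc] at h1
    norm_num [Nat.ModEq] at h1
  have hC15 : Nat.card C ≤ 15 := by
    refine (card_le_mul_stab C w {0}ᶜ fun g _ => fun h => hw ((smul_eq_zero_iff_eq g).1 h)).trans ?_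
    have hbot : C ⊓ MulAction.stabilizer X w = ⊥ := by
      rw [eq_bot_iff]
      intro c hc
      rw [Subgroup.mem_bot]
      by_contra h1
      exact hw (hfree c hc.1 h1 w hc.2)
    rw [hbot, Subgroup.card_bot, mul_one, Set.ncard_compl, Set.ncard_singleton, hd]
    norm_num
  have hprimes : ∀ r : ℕ, r.Prime → r ∣ Nat.card C → r = 5 := by
    intro r hr hdvd
    haveI := Fact.mk hr
    obtain ⟨c, hc⟩ := exists_prime_orderOf_dvd_card' (G := C) r hdvd
    have hc1 : (c : X) ≠ 1 := fun h => by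
      rw [show c = 1 from Subtype.ext h, orderOf_one] at hc
      exact hr.ne_one hc.symm
    have h1 := card_modEq_one (q := r) ⟨hr, by rw [← Subgroup.coe_pow, ← hc, pow_orderOf_eq_one]; rfl,
      hfree _ c.2 hc1⟩ ⊤ fun u _ => AddSubgroup.mem_top _
    rw [AddSubgroup.card_top, hd] at h1
    have h15 : r ∣ 15 := (Nat.modEq_iff_dvd' (by norm_num)).1 h1.symm
    have hle := Nat.le_of_dvd (by norm_num) h15
    have h3 : r ≠ 3 := fun h => hno3 (h ▸ hdvd)
    interval_cases r <;> first | rfl | omega | exact absurd hr (by norm_num)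
  have hC5 : Nat.card C ≤ 5 := by
    by_contra hlt
    push Not at hlt
    have hpos : 0 < Nat.card C := Nat.card_pos
    have h5 : ∀ r : ℕ, r.Prime → r ∣ Nat.card C → r = 5 := hprimes
    have hm : Nat.card C = 5 ^ (Nat.card C).primeFactorsList.length :=
      Nat.eq_prime_pow_of_unique_prime_dvd hpos.ne' fun {r} hr hdvd => h5 r hr hdvd
    generalize (Nat.card C).primeFactorsList.length = k at hm
    rw [hm] at hlt hC15
    rcases k with _ | _ | k
    · norm_num at hlt
    · norm_num at hlt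
    · have : 5 ^ 2 ≤ 5 ^ (k + 1 + 1) := Nat.pow_le_pow_right (by norm_num) (by omega)
      omega
  have := index_centralizer_le hτ.prime hτ.pow hτ1
  rw [show (5 : ℕ) - 1 = 4 by rfl] at this
  change Nat.card X ≤ 4 * Nat.card C at this
  omega

theorem card_seven_six (hX : Preserves B X) (hV : ∀ v : V, 2 • v = 0)
    (hd : Nat.card V = 2 ^ 6) {τ : X} (hτ : FPF V τ 7) [(Subgroup.zpowers τ).Normal] :
    Nat.card X ≤ 378 := by
  haveI : Nontrivial V := Finite.one_lt_card_iff_nontrivial.1 (by rw [hd]; norm_num)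
  obtain ⟨w, hw⟩ := exists_ne (0 : V)
  have hτ1 : τ ≠ 1 := fun h => hw (hτ.free w (by rw [h, one_smul]))
  obtain ⟨v, -, hv⟩ := exists_aniso hX hτ (by decide) (U := ⊤) (fun _ _ _ _ => AddSubgroup.mem_top _)
    (B.nondegOn_top_iff.2 hX.nondeg) (fun h => hw (AddSubgroup.mem_bot.1 (h ▸ AddSubgroup.mem_top w)))
  have hv0 : v ≠ 0 := fun h => hv (by rw [h, B.zero_left])
  set U := AddSubgroup.closure (Set.range fun n : ℕ => τ ^ n • v) with hU
  have hUi : ∀ u ∈ U, τ • u ∈ U := by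
    intro u hu
    refine (AddSubgroup.closure_le (K := U.comap (DistribMulAction.toAddMonoidHom V τ))).2 ?_ hu
    rintro _ ⟨n, rfl⟩
    change τ • τ ^ n • v ∈ U
    rw [← mul_smul, ← pow_succ']
    exact AddSubgroup.subset_closure ⟨n + 1, rfl⟩
  have hvU : v ∈ U := AddSubgroup.subset_closure ⟨0, by simp⟩
  have hUz : ∀ g ∈ Subgroup.zpowers τ, ∀ u ∈ U, g • u ∈ U := by
    intro g hg u hu
    obtain ⟨n, rfl⟩ := (mem_powers_iff_mem_zpowers (x := τ)).2 hg
    change τ ^ n • u ∈ U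
    clear hg
    induction n with
    | zero => rwa [pow_zero, one_smul]
    | succ n ih => rw [pow_succ', mul_smul]; exact hUi _ ih
  have h1 := card_modEq_one hτ U hUi
  obtain ⟨k, hk, hk'⟩ := (Nat.dvd_prime_pow Nat.prime_two).1
    (hd ▸ AddSubgroup.card_addSubgroup_dvd_card U : Nat.card U ∣ 2 ^ 6)
  have htop : U = ⊤ := by
    rw [hk'] at h1
    interval_cases k <;> norm_num [Nat.ModEq] at h1
    · rw [pow_zero] at hk'
      rw [AddSubgroup.eq_bot_of_card_eq U hk', AddSubgroup.mem_bot] at hvU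
      exact absurd hvU hv0
    · exfalso
      have hRi : ∀ u ∈ U ⊓ B.perp (U : Set V), τ • u ∈ U ⊓ B.perp (U : Set V) := fun u hu =>
        ⟨hUi u hu.1, perp_invariant hX hUz hu.2⟩
      have h2 := card_modEq_one hτ _ hRi
      obtain ⟨m, hm, hm'⟩ := (Nat.dvd_prime_pow Nat.prime_two).1
        (hk' ▸ AddSubgroup.card_dvd_of_le inf_le_left :
          Nat.card (U ⊓ B.perp (U : Set V) : AddSubgroup V) ∣ 2 ^ 3)
      rw [hm'] at h2
      interval_cases m <;> norm_num [Nat.ModEq] at h2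
      · obtain ⟨a, ha⟩ := Alt.exists_card_eq_sq Nat.prime_two (fun u : U => Subtype.ext (hV u))
          (B.restrict_nondeg (AddSubgroup.eq_bot_of_card_eq _ hm'))
        rw [hk', ← pow_mul] at ha
        have := Nat.pow_right_injective le_rfl ha
        omega
      · have hle : U ≤ B.perp (U : Set V) :=
          inf_eq_left.1 (AddSubgroup.eq_of_le_of_card_ge inf_le_left (by rw [hm', hk']))
        exact hv (hle hvU _ (hUi v hvU))
    · exact AddSubgroup.eq_top_of_card_eq U (by rw [hk', hd])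
  set C := Subgroup.centralizer ({τ} : Set X) with hC
  have hbot : C ⊓ MulAction.stabilizer X v = ⊥ := by
    rw [eq_bot_iff]
    intro c hc
    refine Subgroup.mem_bot.2 (hX.faithful c fun u => ?_)
    let E : AddSubgroup V := fixpts V (Subgroup.zpowers c)
    have hle : U ≤ E := (AddSubgroup.closure_le _).2 (by
      rintro _ ⟨n, rfl⟩ g hg
      refine (Subgroup.zpowers_le.2 (MulAction.mem_stabilizer_iff.2 ?_) hg :
        g ∈ MulAction.stabilizer X (τ ^ n • v))
      rw [← mul_smul, ((show Commute c τ from Subgroup.mem_centralizer_singleton_iff.1 hc.1).pow_right n).eq,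
        mul_smul, MulAction.mem_stabilizer_iff.1 hc.2])
    exact hle (htop ▸ AddSubgroup.mem_top u) c (Subgroup.mem_zpowers c)
  have hC63 : Nat.card C ≤ 63 := by
    refine (card_le_mul_stab C v {0}ᶜ fun g _ => fun h => hv0 ((smul_eq_zero_iff_eq g).1 h)).trans ?_
    rw [hbot, Subgroup.card_bot, mul_one, Set.ncard_compl, Set.ncard_singleton, hd]
    norm_num
  have := index_centralizer_le hτ.prime hτ.pow hτ1
  rw [show (7 : ℕ) - 1 = 6 by rfl] at this
  change Nat.card X ≤ 6 * Nat.card C at this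
  omega

/-- The exceptional cases. -/
theorem kbound_small (hX : Preserves B X) [Group.IsSolvable X] (hirr : IsIrred X V)
    (hV : ∀ v : V, 2 • v = 0) {d : ℕ} (hd : Nat.card V = 2 ^ d) (hd6 : d = 4 ∨ d = 6) :
    KBound X (if d = 4 then 27 else 2187) := by
  rcases subsingleton_or_nontrivial X with hs | hnt
  · refine KBound.of_card ?_
    rw [Nat.card_of_subsingleton (1 : X)]
    split_ifs <;> norm_num
  obtain ⟨q, A, hq, hAn, hA1, hAc, hAq⟩ := exists_elementary_normal X
  haveI := hAn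
  haveI := Fact.mk hq
  have hfix := fixpts_normal_eq_bot hX hirr hA1
  have hodd : Odd q := by
    refine hq.odd_of_ne_two fun h2 => ?_
    subst h2
    letI : MulAction A V := MulAction.compHom V A.subtype
    have hP : IsPGroup 2 A := fun a => ⟨1, Subtype.ext (by rw [pow_one]; exact hAq a a.2)⟩
    have h := hP.card_modEq_card_fixedPoints V
    have hset : MulAction.fixedPoints A V = {0} := by
      ext u
      constructor
      · intro hu
        exact AddSubgroup.mem_bot.1 (hfix ▸ (fun a ha => hu ⟨a, ha⟩ : u ∈ fixpts V A))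
      · rintro rfl a
        exact smul_zero (a : X)
    rw [hset, hd] at h
    rcases hd6 with rfl | rfl <;> simp [Nat.ModEq] at h
  by_cases hcyc : ∃ a ∈ A, A ≤ Subgroup.zpowers a
  swap
  · push Not at hcyc
    obtain ⟨Ws, hcard, h4, hnd, hperm, hsup⟩ :=
      exists_planes hX hirr hV hd hd6 hq hodd hA1 hAc hAq hcyc
    refine (kbound_of_planes hX hV Ws h4 hnd hperm hsup).mono_n ?_
    rcases hd6 with rfl | rfl
    · calc 3 ^ Ws.card * Nat.factorial Ws.card ≤ 3 ^ 2 * Nat.factorial 2 :=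
            Nat.mul_le_mul (Nat.pow_le_pow_right (by norm_num) hcard) (Nat.factorial_le hcard)
        _ ≤ _ := by norm_num [Nat.factorial]
    · calc 3 ^ Ws.card * Nat.factorial Ws.card ≤ 3 ^ 3 * Nat.factorial 3 :=
            Nat.mul_le_mul (Nat.pow_le_pow_right (by norm_num) hcard) (Nat.factorial_le hcard)
        _ ≤ _ := by norm_num [Nat.factorial]
  obtain ⟨τ, hτA, hAτ⟩ := hcyc
  have hAeq : A = Subgroup.zpowers τ := le_antisymm hAτ (Subgroup.zpowers_le.2 hτA)
  haveI : (Subgroup.zpowers τ).Normal := hAeq ▸ hAn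
  have hτ : FPF V τ q := ⟨hq, hAq τ hτA, fun v hv => AddSubgroup.mem_bot.1 (hfix ▸
    (fun a ha => (Subgroup.zpowers_le.2 (MulAction.mem_stabilizer_iff.2 hv) (hAτ ha) :
      a ∈ MulAction.stabilizer X v) : v ∈ fixpts V A))⟩
  have h1 := card_modEq_one hτ ⊤ fun u _ => AddSubgroup.mem_top _
  rw [AddSubgroup.card_top, hd] at h1
  have hdvd : q ∣ 2 ^ d - 1 := (Nat.modEq_iff_dvd' Nat.one_le_two_pow).1 h1.symm
  rcases hd6 with rfl | rfl
  · rw [if_pos rfl]
    have hle := Nat.le_of_dvd (by norm_num) hdvd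
    norm_num at hdvd hle
    interval_cases q <;> first | omega | (revert hq; norm_num; done) | skip
    · exact (kbound_three_four hX hV hd hτ).mono_n (by norm_num)
    · exact KBound.of_card ((card_five_four hX hV hd hτ).trans (by norm_num))
  · rw [if_neg (by norm_num)]
    have hle := Nat.le_of_dvd (by norm_num) hdvd
    norm_num at hdvd hle
    interval_cases q <;> first | omega | (revert hq; norm_num; done) | skip
    · exact KBound.of_card ((card_three_six hX hV hd hτ).trans (by norm_num))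
    · exact KBound.of_card ((card_seven_six hX hV hd hτ).trans (by norm_num))

end Cfsg.Agent.H30.ClassFit
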