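import Cfsg.Agent.H30.ClassFit.Small

/-!
Class numbers of solvable groups of isometries all of whose invariant subgroups are nondegenerate.
-/

namespace Cfsg.Agent.H30.ClassFit

universe u

theorem six_mul_le_three_pow {p a : ℕ} (hp : p.Prime) (ha : 2 ≤ a)
    (h22 : ¬ (p = 2 ∧ a ≤ 3)) (h32 : ¬ (p = 3 ∧ a = 2)) :
    p ^ (3 * (2 * a) - 1) ≤ 3 ^ (p ^ a - 1) := by
  by_cases hp2 : p = 2
  · subst hp2
    have ha4 : 4 ≤ a := by
      by_contra h
      exact h22 ⟨rfl, by omega⟩
    clear h22 h32 ha
    induction a, ha4 using Nat.le_induction with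
    | base => norm_num
    | succ n hn ih =>
      calc 2 ^ (3 * (2 * (n + 1)) - 1) ≤ (2 ^ (3 * (2 * n) - 1)) ^ 2 := by
            rw [← pow_mul]
            exact Nat.pow_le_pow_right (by norm_num) (by omega)
        _ ≤ (3 ^ (2 ^ n - 1)) ^ 2 := Nat.pow_le_pow_left ih 2
        _ ≤ 3 ^ (2 ^ (n + 1) - 1) := by
            rw [← pow_mul]
            refine Nat.pow_le_pow_right (by norm_num) ?_
            rw [pow_succ]
            omega
  have hp3 : 3 ≤ p := by have := hp.two_le; omega
  have h1 : p ^ (3 * (2 * a) - 1) ≤ (p * p) ^ (3 * a) := by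
    rw [← sq, ← pow_mul]
    exact Nat.pow_le_pow_right hp.pos (by omega)
  refine h1.trans ((Nat.pow_le_pow_left (sq_le_three_pow hp3) _).trans ?_)
  rw [← pow_mul]
  refine Nat.pow_le_pow_right (by norm_num) ?_
  rcases Nat.lt_or_ge a 3 with h | h
  · have ha2 : a = 2 := by omega
    subst ha2
    have h5 : 5 ≤ p := by
      by_contra h5
      interval_cases p
      · exact h32 ⟨rfl, rfl⟩
      · norm_num at hp
    obtain ⟨k, rfl⟩ : ∃ k, p = k + 5 := ⟨p - 5, by omega⟩
    rw [show k + 5 - 1 = k + 4 by omega]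
    refine Nat.le_sub_of_add_le ?_
    nlinarith
  · have h2 : (∑ i ∈ Finset.range a, p ^ i) * (p - 1) = p ^ a - 1 :=
      geom_sum_mul_of_one_le (by omega) a
    have h3 : 3 * a ≤ ∑ i ∈ Finset.range a, p ^ i := by
      clear h1 h2 h22 h32 ha
      induction a, h using Nat.le_induction with
      | base =>
        simp only [Finset.sum_range_succ, Finset.sum_range_zero, pow_zero, pow_one]
        nlinarith
      | succ n hn ih =>
        rw [Finset.sum_range_succ]
        have : 3 ≤ p ^ n := hp3.trans (Nat.le_self_pow (by omega) p)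
        omega
    rw [← h2, mul_comm]
    exact Nat.mul_le_mul_right _ h3

variable {X V : Type u} [Group X] [Finite X] [AddCommGroup V] [Finite V] [DistribMulAction X V]
  {B : Alt V}

theorem kbound_irreducible (hX : Preserves B X) [Group.IsSolvable X] (hirr : IsIrred X V) :
    ∃ e, e * e = Nat.card V ∧ KBound X (3 ^ (e - 1)) := by
  haveI := hirr.1
  obtain ⟨p, hp, hdvd⟩ := Nat.exists_prime_and_dvd (Finite.one_lt_card (α := V)).ne'
  haveI := Fact.mk hp
  have hV : ∀ v : V, p • v = 0 := by
    let U : AddSubgroup V := (nsmulAddMonoidHom p : V →+ V).ker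
    rcases hirr.2 U (fun g v (hv : p • v = 0) => by
      change p • (g • v) = 0
      rw [← smul_comm g p v, hv, smul_zero]) with h | h
    · obtain ⟨x, hx⟩ := exists_prime_addOrderOf_dvd_card' (G := V) p hdvd
      have hxU : x ∈ U := by change p • x = 0; rw [← hx, addOrderOf_nsmul_eq_zero]
      rw [h, AddSubgroup.mem_bot] at hxU
      rw [hxU, addOrderOf_zero] at hx
      exact absurd hx.symm hp.ne_one
    · exact fun v => (h ▸ AddSubgroup.mem_top v : v ∈ U)
  obtain ⟨a, ha⟩ := Alt.exists_card_eq_sq hp hV hX.nondeg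
  have hd : Nat.card V = p ^ (2 * a) := by rw [ha, ← pow_mul, mul_comm]
  have ha1 : 1 ≤ a := by
    by_contra h
    have : a = 0 := by omega
    subst this
    have h1 : 1 < Nat.card V := Finite.one_lt_card
    rw [hd] at h1
    norm_num at h1
  refine ⟨p ^ a, by rw [hd, ← pow_add, two_mul], ?_⟩
  rcases Nat.lt_or_ge a 2 with h | h
  · have ha' : a = 1 := by omega
    subst ha'
    refine (hX.kbound_centralizer hp hV hd le_rfl).mono_n ?_
    rw [Finset.Ico_self, Finset.prod_empty, mul_one, pow_one]
    by_cases hp2 : p = 2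
    · subst hp2; norm_num
    · rw [if_neg hp2]
      have h3 : 3 ≤ p := by have := hp.two_le; omega
      refine le_trans ?_ (sq_le_three_pow h3)
      have h2 : p ^ (2 * 1) = p * p := by ring
      have h4 : 1 ≤ p * p := Nat.one_le_iff_ne_zero.2 (Nat.mul_ne_zero hp.ne_zero hp.ne_zero)
      omega
  by_cases h22 : p = 2 ∧ a ≤ 3
  · obtain ⟨rfl, ha3⟩ := h22
    have h' := kbound_small hX hirr hV hd (by omega)
    refine h'.mono_n ?_
    interval_cases a <;> norm_num
  by_cases h32 : p = 3 ∧ a = 2
  · obtain ⟨rfl, rfl⟩ := h32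
    refine (hX.kbound_centralizer hp hV hd (by norm_num)).mono_n ?_
    simp only [Finset.prod_Ico_eq_prod_range, Finset.prod_range_succ]
    norm_num
  refine KBound.of_card ((hX.card_le_of_triple hp hd hV (fun U hU => ?_) (by omega)).trans
    (six_mul_le_three_pow hp h h22 h32))
  rcases hirr.2 U hU with rfl | rfl
  · exact bot_inf_eq _
  · exact B.nondegOn_top_iff.2 hX.nondeg

/-- The main bound for groups of isometries. -/
theorem kbound_isometries : ∀ (n : ℕ) (V : Type u) [AddCommGroup V] [Finite V] (X : Type u)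
    [Group X] [Finite X] [DistribMulAction X V] [Group.IsSolvable X] (B : Alt V),
    Nat.card V = n → Preserves B X →
    (∀ U : AddSubgroup V, (∀ g : X, ∀ u ∈ U, g • u ∈ U) → B.NondegOn U) →
    ∃ e, e * e = n ∧ KBound X (3 ^ (e - 1)) := by
  intro n
  induction n using Nat.strong_induction_on with
  | _ n ih =>
    intro V _ _ X _ _ _ _ B hn hX hnd
    rcases subsingleton_or_nontrivial V with hs | hnt
    · refine ⟨1, by rw [← hn, Nat.card_of_subsingleton (0 : V)], ?_⟩
      haveI : Subsingleton X :=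
        ⟨fun a b => by
          rw [hX.faithful a fun v => Subsingleton.elim _ _, hX.faithful b fun v => Subsingleton.elim _ _]⟩
      refine KBound.of_card ?_
      rw [Nat.card_of_subsingleton (1 : X)]
      norm_num
    by_cases hirr : IsIrred X V
    · rw [← hn]
      exact kbound_irreducible hX hirr
    simp only [IsIrred, hnt, true_and, not_forall] at hirr
    obtain ⟨U, hU, hU'⟩ := hirr
    push Not at hU'
    obtain ⟨hUbot, hUtop⟩ := hU'
    set Q := B.perp (U : Set V) with hQ
    have hQi : ∀ g : X, ∀ u ∈ Q, g • u ∈ Q := fun g u hu t ht => by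
      have h := hX.pres g u (g⁻¹ • t)
      rw [smul_inv_smul] at h
      rw [h]
      exact hu _ (hU g⁻¹ t ht)
    have hUn := hnd U hU
    have hQn : B.NondegOn Q := hnd Q hQi
    have hsup := Alt.sup_perp_eq_top hX.nondeg hUn
    have hmul := Alt.card_mul_card_perp hX.nondeg U
    rw [hn] at hmul
    have hrec : ∀ (W : AddSubgroup V) (hW : ∀ g : X, ∀ u ∈ W, g • u ∈ W), Nat.card W < n →
        ∃ e, e * e = Nat.card W ∧
          KBound (subAction (⊤ : Subgroup X) W fun g _ => hW g).range (3 ^ (e - 1)) := by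
      intro W hW hlt
      haveI : Finite (AddMonoid.End W)ˣ :=
        Finite.of_injective (fun f => ((f : AddMonoid.End W) : W → W))
          fun f g h => Units.ext (DFunLike.coe_injective h)
      haveI : Group.IsSolvable (subAction (⊤ : Subgroup X) W fun g _ => hW g).range :=
        Group.isSolvable_of_surjective
          (subAction (⊤ : Subgroup X) W fun g _ => hW g).rangeRestrict_surjective
      refine ih _ hlt W (subAction (⊤ : Subgroup X) W fun g _ => hW g).range (B.restrict W) rfl
        (preserves_range hX (hnd W hW) fun g _ => hW g) fun U' hU' => ?_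
      have hmap : ∀ g : X, ∀ u ∈ U'.map W.subtype, g • u ∈ U'.map W.subtype := by
        rintro g _ ⟨u, hu, rfl⟩
        exact ⟨_, hU' ⟨_, ⟨g, Subgroup.mem_top g⟩, rfl⟩ u hu, rfl⟩
      rw [Alt.NondegOn, eq_bot_iff]
      rintro u ⟨hu, hup⟩
      have h1 : (u : V) ∈ U'.map W.subtype ⊓ B.perp (U'.map W.subtype : Set V) :=
        ⟨⟨u, hu, rfl⟩, by rintro _ ⟨t, ht, rfl⟩; exact hup t ht⟩
      rw [hnd _ hmap, AddSubgroup.mem_bot] at h1
      exact AddSubgroup.mem_bot.2 (Subtype.ext h1)
    have hUlt : Nat.card U < n := by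
      rw [← hn]
      refine lt_of_le_of_ne (AddSubgroup.card_le_card_addGroup U) fun h => hUtop ?_
      exact AddSubgroup.eq_top_of_card_eq U h
    have hQlt : Nat.card Q < n := by
      rw [← hmul]
      exact lt_mul_of_one_lt_left Nat.card_pos ((AddSubgroup.one_lt_card_iff_ne_bot U).2 hUbot)
    obtain ⟨e1, he1, hk1⟩ := hrec U hU hUlt
    obtain ⟨e2, he2, hk2⟩ := hrec Q hQi hQlt
    refine ⟨e1 * e2, by rw [← hmul, ← he1, ← he2]; ring, ?_⟩
    haveI : Finite (AddMonoid.End U)ˣ :=
      Finite.of_injective (fun f => ((f : AddMonoid.End U) : U → U))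
        fun f g h => Units.ext (DFunLike.coe_injective h)
    haveI : Finite (AddMonoid.End Q)ˣ :=
      Finite.of_injective (fun f => ((f : AddMonoid.End Q) : Q → Q))
        fun f g h => Units.ext (DFunLike.coe_injective h)
    let j : X →* (subAction (⊤ : Subgroup X) U fun g _ => hU g).range ×
        (subAction (⊤ : Subgroup X) Q fun g _ => hQi g).range :=
      ((subAction (⊤ : Subgroup X) U fun g _ => hU g).rangeRestrict.prod
        (subAction (⊤ : Subgroup X) Q fun g _ => hQi g).rangeRestrict).comp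
        Subgroup.topEquiv.symm.toMonoidHom
    have hj : Function.Injective j := (injective_iff_map_eq_one j).2 fun g hg => hX.faithful g fun v => by
      obtain ⟨a, ha, b, hb, rfl⟩ := AddSubgroup.mem_sup.1
        (hsup ▸ AddSubgroup.mem_top v : v ∈ U ⊔ B.perp (U : Set V))
      have h1 : subAction (⊤ : Subgroup X) U (fun g _ => hU g) ⟨g, Subgroup.mem_top g⟩ = 1 :=
        congrArg Subtype.val (Prod.ext_iff.1 hg).1
      have h2 : subAction (⊤ : Subgroup X) Q (fun g _ => hQi g) ⟨g, Subgroup.mem_top g⟩ = 1 :=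
        congrArg Subtype.val (Prod.ext_iff.1 hg).2
      have h1' := subAction_apply (⊤ : Subgroup X) U (fun g _ => hU g) ⟨g, Subgroup.mem_top g⟩ ⟨a, ha⟩
      have h2' := subAction_apply (⊤ : Subgroup X) Q (fun g _ => hQi g) ⟨g, Subgroup.mem_top g⟩ ⟨b, hb⟩
      rw [h1, one_smul] at h1'
      rw [h2, one_smul] at h2'
      rw [smul_add]
      exact congrArg₂ (· + ·) h1'.symm h2'.symm
    refine ((hk1.prod hk2).of_injective j hj).mono_n ?_
    rw [← pow_add]
    refine Nat.pow_le_pow_right (by norm_num) ?_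
    have hpos1 : 0 < Nat.card U := Nat.card_pos
    have hpos2 : 0 < Nat.card Q := Nat.card_pos
    rw [← he1] at hpos1
    rw [← he2] at hpos2
    have he1' : 1 ≤ e1 := Nat.pos_of_mul_pos_left hpos1
    have he2' : 1 ≤ e2 := Nat.pos_of_mul_pos_left hpos2
    obtain ⟨a, rfl⟩ := Nat.exists_eq_add_of_le he1'
    obtain ⟨b, rfl⟩ := Nat.exists_eq_add_of_le he2'
    rw [show (1 + a) * (1 + b) = 1 + (a + b + a * b) by ring]
    omega

end Cfsg.Agent.H30.ClassFit
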